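import Cfsg.Agent.CoprimeClass.Basic
import Mathlib.GroupTheory.QuotientGroup.Basic

/-!
Groups whose two largest class sizes are coprime.
-/

set_option autoImplicit false
set_option linter.unusedSectionVars false
set_option linter.style.haveILetI false

namespace Cfsg.Agent.CoprimeClass

open Subgroup

/-- the hypothesis: the two largest class sizes are coprime -/
structure Hyp (G : Type*) [Group G] where
  m : ℕ
  n : ℕ
  hmn : n < m
  hn : 1 < n
  hcop : m.Coprime n
  top : ∀ z : G, sz z ≤ m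
  second : ∀ z : G, sz z < m → sz z ≤ n
  x : G
  hx : sz x = n
  y : G
  hy : sz y = m

variable {G : Type*} [Group G] [Finite G]

theorem sz_pos (z : G) : 0 < sz z := Nat.pos_of_ne_zero FiniteIndex.index_ne_zero

theorem eq_of_le_of_sz_le {H K : Subgroup G} (hle : H ≤ K) (h : H.index ≤ K.index) : H = K := by
  refine le_antisymm hle (relIndex_eq_one.mp ?_)
  have e := relIndex_mul_index hle
  have hpos : 0 < K.index := Nat.pos_of_ne_zero FiniteIndex.index_ne_zero
  have h1 : H.relIndex K * K.index ≤ 1 * K.index := by omega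
  have h2 := Nat.le_of_mul_le_mul_right h1 hpos
  have h3 : H.relIndex K ≠ 0 := fun h0 => by
    rw [h0, zero_mul] at e; exact FiniteIndex.index_ne_zero e.symm
  omega

theorem sz_conj (g z : G) : sz (g * z * g⁻¹) = sz z := by
  rw [← card_cls, ← card_cls]
  refine congrArg (fun S : Set G => Nat.card S) (Set.ext fun w => ⟨?_, ?_⟩)
  · rintro ⟨c, rfl⟩
    exact ⟨c * g, by group⟩
  · rintro ⟨c, rfl⟩
    exact ⟨c * g⁻¹, by group⟩

theorem card_lt_of {α β : Type*} [Finite β] (f : α → β) (hf : Function.Injective f) (hs : ¬ Function.Surjective f) :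
    Nat.card α < Nat.card β :=
  lt_of_le_of_ne (Nat.card_le_card_of_injective f hf) fun h => hs (hf.bijective_of_nat_card_le h.ge).2

theorem exists_prime_elt {H K : Subgroup G} {r : ℕ} (hr : r.Prime) (h : r ∣ H.relIndex K) :
    ∃ u ∈ K, u ∉ H ∧ ∃ a, orderOf u = r ^ a := by
  haveI : Fact r.Prime := ⟨hr⟩
  let R : Sylow r K := default
  by_contra hc
  push Not at hc
  refine R.not_dvd_index (h.trans (index_dvd_of_le fun u hu => ?_))
  rw [mem_subgroupOf]
  by_contra hu'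
  obtain ⟨a, ha⟩ := (IsPGroup.iff_orderOf.mp R.2) ⟨u, hu⟩
  rw [← orderOf_coe] at ha
  exact hc (u : G) u.2 hu' a (by rw [orderOf_coe]; exact ha)

theorem pow_relIndex_mem_center {K : Subgroup G} {c : G} (hc : c ∈ K) : c ^ (center G).relIndex K ∈ center G := by
  have := pow_index_mem (H := (center G).subgroupOf K) (⟨c, hc⟩ : K)
  simpa [mem_subgroupOf, relIndex] using this

theorem mem_center_of_coprime {K : Subgroup G} {c : G} {k : ℕ} (hc : c ∈ K) (ho : c ^ k = 1)
    (hk : ((center G).relIndex K).Coprime k) : c ∈ center G := by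
  have h1 : c ^ k ∈ center G := ho ▸ one_mem _
  have h2 := pow_relIndex_mem_center (K := K) hc
  have e : c = (c ^ (center G).relIndex K) ^ Nat.gcdA ((center G).relIndex K) k * (c ^ k) ^ Nat.gcdB ((center G).relIndex K) k := by
    rw [← zpow_natCast c k, ← zpow_natCast c ((center G).relIndex K), ← zpow_mul, ← zpow_mul, ← zpow_add,
      ← Nat.gcd_eq_gcd_ab, hk.gcd_eq_one]
    simp
  rw [e]
  exact mul_mem (zpow_mem h2 _) (zpow_mem h1 _)

theorem exists_fixed {q a : ℕ} (hq : q.Prime) {w : G} (hw : orderOf w = q ^ a) (S : Set G)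
    (hS : ∀ z ∈ S, w * z * w⁻¹ ∈ S) (hcard : ¬ q ∣ Nat.card S) : ∃ z ∈ S, z ∈ cz w := by
  classical
  haveI : Fact q.Prime := ⟨hq⟩
  haveI := Fintype.ofFinite S
  let f : S → S := fun z => ⟨w * (z : G) * w⁻¹, hS z z.2⟩
  have hf : Function.Bijective f := (Finite.injective_iff_bijective).mp fun z z' h =>
    Subtype.ext (mul_left_cancel (mul_right_cancel (congrArg Subtype.val h)))
  let σ : Equiv.Perm S := Equiv.ofBijective f hf
  have hpow : ∀ (k : ℕ) (z : S), (((σ ^ k) z : S) : G) = w ^ k * (z : G) * (w ^ k)⁻¹ := by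
    intro k z
    induction k with
    | zero => simp
    | succ k ih =>
      rw [pow_succ', Equiv.Perm.mul_apply]
      show w * (((σ ^ k) z : S) : G) * w⁻¹ = _
      rw [ih]; group
  have hσ : σ ^ q ^ a = 1 := Equiv.ext fun z => Subtype.ext (by rw [hpow, ← hw, pow_orderOf_eq_one]; simp)
  obtain ⟨z, hz⟩ := Equiv.Perm.exists_fixed_point_of_prime (Nat.card_eq_fintype_card (α := S) ▸ hcard) hσ
  have h1 : w * (z : G) * w⁻¹ = (z : G) := congrArg Subtype.val hz
  exact ⟨z, z.2, mem_cz.mpr (mul_inv_eq_iff_eq_mul.mp h1).symm⟩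

theorem exists_conj_mem {q a : ℕ} (hq : q.Prime) {w : G} (hw : orderOf w = q ^ a) (K : Subgroup G)
    (hK : ¬ q ∣ K.index) : ∃ g : G, g⁻¹ * w * g ∈ K := by
  classical
  haveI : Fact q.Prime := ⟨hq⟩
  haveI := Fintype.ofFinite (G ⧸ K)
  let σ : Equiv.Perm (G ⧸ K) := MulAction.toPerm w
  have hσ : σ ^ q ^ a = 1 := by
    show (MulAction.toPermHom G (G ⧸ K) w) ^ q ^ a = 1
    rw [← map_pow, ← hw, pow_orderOf_eq_one, map_one]
  obtain ⟨z, hz⟩ := Equiv.Perm.exists_fixed_point_of_prime (Nat.card_eq_fintype_card (α := G ⧸ K) ▸ hK) hσ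
  obtain ⟨g, rfl⟩ := QuotientGroup.mk_surjective z
  have h1 : g⁻¹ * (w * g) ∈ K := QuotientGroup.eq.mp hz.symm
  exact ⟨g, by rwa [mul_assoc]⟩

namespace Hyp

variable (D : Hyp G)

theorem sz_cases (z : G) : sz z = D.m ∨ sz z ≤ D.n :=
  (Nat.lt_or_eq_of_le (D.top z)).elim (fun h => Or.inr (D.second z h)) Or.inl

theorem not_m_dvd {k : ℕ} (h0 : 0 < k) (hk : k ≤ D.n) : ¬ D.m ∣ k := fun h => by
  have := Nat.le_of_dvd h0 h
  have := D.hmn
  omega

theorem dvd_m_eq {z : G} (h : D.m ∣ sz z) : sz z = D.m :=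
  le_antisymm (D.top z) (Nat.le_of_dvd (sz_pos z) h)

theorem dvd_n_eq {z : G} (h : D.n ∣ sz z) : sz z = D.n := by
  rcases D.sz_cases z with hz | hz
  · rw [hz] at h
    exact absurd (Nat.eq_one_of_dvd_coprimes D.hcop h dvd_rfl) (by have := D.hn; omega)
  · exact le_antisymm hz (Nat.le_of_dvd (sz_pos z) h)

/-- small class sizes dividing `m` do not occur -/
theorem central_of_dvd_m {u : G} (hk : sz u ∣ D.m) (hle : sz u ≤ D.n) : u ∈ center G := by
  have hcx : (sz u).Coprime (sz D.x) := by rw [D.hx]; exact D.hcop.coprime_dvd_left hk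
  have hcu : (sz u).Coprime D.n := D.hx ▸ hcx
  have hs : sz (u * D.x) = sz D.x := by
    refine le_antisymm ?_ (sz_le_sz_mul hcx)
    rcases D.sz_cases (u * D.x) with h | h
    · have h1 := sz_mul_dvd hcx
      rw [h, D.hx] at h1
      exact absurd (D.hcop.dvd_of_dvd_mul_right h1) (D.not_m_dvd (sz_pos u) hle)
    · rwa [D.hx]
  obtain ⟨h1, h2, h3, h4, h5⟩ := comSub_facts hcx hs
  have hxy : (sz D.x).Coprime (sz D.y) := by rw [D.hx, D.hy]; exact D.hcop.symm
  have hs' : sz (D.x * D.y) = sz D.y := le_antisymm ((D.top _).trans D.hy.ge) (sz_le_sz_mul hxy)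
  obtain ⟨g1, -, -, -, -⟩ := comSub_facts hxy hs'
  have hle' : comSub u ≤ comSub D.x := by
    intro d hd
    obtain ⟨g, hg⟩ := translate hcx hs hd ⟨1, by simp⟩ (z := D.x)
    have hg' : g * D.x * g⁻¹ = d * D.x := hg
    have := mem_comSub D.x g
    rw [hg'] at this
    have h6 := (comSub_normal D.x).conj_mem _ this D.x
    rwa [show D.x * (D.x⁻¹ * (d * D.x)) * D.x⁻¹ = d by group] at h6
  refine central_of_sz_one (h2.trans (le_of_eq ?_))
  rw [D.hx] at h1
  rw [D.hy] at g1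
  exact Nat.eq_one_of_dvd_coprimes D.hcop ((card_dvd_of_le hle').trans g1) h1

/-- facts on an element whose class size is `n` -/
theorem comSub_of_coprime {u : G} (hk : (sz u).Coprime D.m) :
    Nat.card (comSub u) ∣ D.m ∧ sz u ≤ Nat.card (comSub u) ∧ comSub u ≤ cz u ∧
      (∀ a ∈ comSub u, ∀ b ∈ comSub u, a * b = b * a) ∧ (∀ d ∈ comSub u, d ^ orderOf u = 1) ∧
      ∀ w : G, sz w = D.m → ∀ d ∈ comSub u, ∃ g : G, g * w * g⁻¹ = d * w := by
  have key : ∀ w : G, sz w = D.m → (sz u).Coprime (sz w) ∧ sz (u * w) = sz w := fun w hw => by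
    have hcop : (sz u).Coprime (sz w) := hw ▸ hk
    exact ⟨hcop, le_antisymm ((D.top _).trans hw.ge) (sz_le_sz_mul hcop)⟩
  obtain ⟨a, b⟩ := key D.y D.hy
  obtain ⟨h1, h2, h3, h4, h5⟩ := comSub_facts a b
  refine ⟨D.hy ▸ h1, h2, h3, h4, h5, fun w hw d hd => ?_⟩
  obtain ⟨a', b'⟩ := key w hw
  exact translate a' b' hd (z := w) ⟨1, by simp⟩

theorem coprime_pow {r a k : ℕ} (hr : r.Prime) (hk : ¬ r ∣ k) : (r ^ a).Coprime k :=
  ((hr.coprime_iff_not_dvd.mpr hk).pow_left a)

/-- a prime power element of class size coprime to `m` whose prime does not divide `m` is central -/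
theorem central_of_coprime_m {u : G} {r a : ℕ} (hr : r.Prime) (ho : orderOf u = r ^ a) (hk : (sz u).Coprime D.m)
    (hrm : ¬ r ∣ D.m) : u ∈ center G := by
  obtain ⟨h1, h2, -, -, h5, -⟩ := D.comSub_of_coprime hk
  refine central_of_sz_one (h2.trans (le_of_eq ?_))
  haveI : Fact r.Prime := ⟨hr⟩
  have hp : IsPGroup r (comSub u) := fun d => ⟨a, Subtype.ext (by simpa [ho] using h5 d d.2)⟩
  obtain ⟨b, hb⟩ := IsPGroup.iff_card.mp hp
  exact Nat.eq_one_of_dvd_coprimes ((coprime_pow hr hrm (a := b))) (hb ▸ dvd_rfl) h1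

theorem mem_cz_self (u : G) : u ∈ cz u := mem_cz.mpr rfl

theorem dichotomy_y {u w : G} (hw : sz w = D.m) (hle : cz w ≤ cz u) : u ∈ center G ∨ cz u = cz w := by
  have h1 : sz u ∣ D.m := hw ▸ index_dvd_of_le hle
  rcases D.sz_cases u with h | h
  · refine Or.inr (le_antisymm ?_ hle)
    refine relIndex_eq_one.mp ?_
    have e := relIndex_mul_index hle
    rw [show (cz w).index = D.m from hw, show (cz u).index = D.m from h] at e
    exact Nat.eq_of_mul_eq_mul_right (sz_pos w) (by rw [show sz w = D.m from hw]; omega)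
  · exact Or.inl (D.central_of_dvd_m h1 h)

theorem not_central_of_sz {w : G} (hw : sz w = D.m) : w ∉ center G := fun h => by
  have h1 : cz w = ⊤ := (Subgroup.eq_top_iff' _).mpr fun g => mem_cz.mpr (mem_center_iff.mp h g)
  have := hw
  rw [sz, h1, index_top] at this
  have := D.hmn
  have := D.hn
  omega

theorem exists_part_m : ∃ w q a, q.Prime ∧ orderOf w = q ^ a ∧ sz w = D.m ∧ cz w = cz D.y := by
  by_contra hc
  push Not at hc
  refine D.not_central_of_sz D.hy (mem_of_parts _ _ fun d hd r a hr ho => ?_)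
  rcases D.dichotomy_y D.hy (cz_le_of_mem_zpowers hd) with h | h
  · exact h
  · exact absurd h (hc d r a hr ho (by rw [sz, h]; exact D.hy))

theorem coprime_comm {u w : G} (hw : sz w = D.m) (hu : u ∈ cz w) (hcop : (orderOf u).Coprime (orderOf w)) :
    u ∈ center G ∨ cz u = cz w := by
  have h := cz_mul (mem_cz.mp hu) hcop
  have h1 : sz (u * w) = D.m := D.dvd_m_eq (hw ▸ index_dvd_of_le (h.le.trans inf_le_right))
  have h2 : cz (u * w) = cz w := eq_of_le_of_sz_le (h.le.trans inf_le_right) (le_of_eq (h1.trans hw.symm))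
  exact D.dichotomy_y hw (h2 ▸ h.le.trans inf_le_left)

/-- two primes in the centralizer make it abelian, and then it meets `cz e` in the centre -/
theorem two_primes {u w e : G} {q a : ℕ} (hq : q.Prime) (hwo : orderOf w = q ^ a) (hw : sz w = D.m) (he : sz e = D.n)
    (hu : u ∈ cz w) (hcop : (orderOf u).Coprime q) (hnc : u ∉ center G) : cz e ⊓ cz w ≤ center G := by
  have huw : cz u = cz w := (D.coprime_comm hw hu (hwo ▸ hcop.pow_right a)).resolve_left hnc
  have key : ∀ d ∈ cz w, ∀ r b : ℕ, r.Prime → orderOf d = r ^ b → d ∈ center G ∨ cz d = cz w := by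
    intro d hd r b hr ho
    by_cases hrq : r = q
    · subst hrq
      exact huw ▸ D.coprime_comm (show sz u = D.m by rw [sz, huw]; exact hw) (huw ▸ hd)
        (ho ▸ (hcop.symm.pow_left b))
    · exact D.coprime_comm hw hd (ho ▸ hwo ▸ (((Nat.coprime_primes hr hq).mpr hrq).pow b a))
  have hab : ∀ c ∈ cz w, cz w ≤ cz c := by
    intro c hc g hg
    suffices c ∈ cz g from mem_cz.mpr (mem_cz.mp this).symm
    refine mem_of_parts _ _ fun d hd r b hr ho => ?_
    rcases key d ((zpowers_le.mpr hc) hd) r b hr ho with h | h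
    · exact center_le g h
    · exact mem_cz.mpr (mem_cz.mp (h ▸ hg : g ∈ cz d)).symm
  intro c hc
  refine mem_of_parts _ _ fun d hd r b hr ho => ?_
  have hd' : d ∈ cz e ⊓ cz w := (zpowers_le.mpr hc) hd
  refine (key d hd'.2 r b hr ho).resolve_right fun h => ?_
  have hew : e ∈ cz w := h ▸ mem_cz.mpr (mem_cz.mp hd'.1).symm
  have h3 : D.n ∣ D.m := he ▸ hw ▸ index_dvd_of_le (hab e hew)
  have := Nat.eq_one_of_dvd_coprimes D.hcop h3 dvd_rfl
  have := D.hn
  omega

theorem inf_relIndex_w {w e : G} (hw : sz w = D.m) (he : sz e = D.n) :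
    (cz e ⊓ cz w).relIndex (cz w) = D.n ∧ (cz e ⊓ cz w).relIndex (cz e) = D.m := by
  have hcop : (sz e).Coprime (sz w) := by rw [he, hw]; exact D.hcop.symm
  have h := inf_index hcop
  have e1 := relIndex_mul_index (inf_le_right : cz e ⊓ cz w ≤ cz w)
  have e2 := relIndex_mul_index (inf_le_left : cz e ⊓ cz w ≤ cz e)
  rw [h] at e1 e2
  constructor
  · rw [← he]; exact Nat.eq_of_mul_eq_mul_right (sz_pos w) e1
  · rw [← hw]; exact Nat.eq_of_mul_eq_mul_right (sz_pos e) (e2.trans (mul_comm _ _))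

theorem q_dvd_n {w : G} {q a : ℕ} (hq : q.Prime) (hwo : orderOf w = q ^ a) (hw : sz w = D.m) : q ∣ D.n := by
  by_contra hqn
  obtain ⟨r, hr, hrn⟩ := Nat.exists_prime_and_dvd (show D.n ≠ 1 by have := D.hn; omega)
  obtain ⟨h1, -⟩ := D.inf_relIndex_w hw D.hx
  obtain ⟨u, huw, hue, b, hub⟩ := exists_prime_elt hr (h1.symm ▸ hrn)
  have hnc : u ∉ center G := fun h => hue ⟨center_le _ h, center_le _ h⟩
  have hrq : r ≠ q := fun h => hqn (h ▸ hrn)
  have hle := D.two_primes hq hwo hw D.hx huw (hub ▸ ((Nat.coprime_primes hr hq).mpr hrq).pow_left b) hnc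
  have heq : cz D.x ⊓ cz w = center G := le_antisymm hle (le_inf (center_le _) (center_le _))
  rw [heq] at h1
  exact D.not_central_of_sz hw (mem_center_of_coprime (mem_cz_self w) (hwo ▸ pow_orderOf_eq_one w)
    (h1.symm ▸ (coprime_pow hq hqn).symm))

theorem not_dvd_m {q : ℕ} (hq : q.Prime) (h : q ∣ D.n) : ¬ q ∣ D.m := fun h' =>
  hq.one_lt.ne' (Nat.eq_one_of_dvd_coprimes D.hcop h' h)

theorem inf_eq_center {w e : G} {q a : ℕ} (hq : q.Prime) (hwo : orderOf w = q ^ a) (hw : sz w = D.m)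
    (he : sz e = D.n) : cz e ⊓ cz w = center G := by
  refine le_antisymm (fun c hc => ?_) (le_inf (center_le _) (center_le _))
  have hqm := D.not_dvd_m hq (D.q_dvd_n hq hwo hw)
  refine mem_of_parts _ _ fun d hd r b hr ho => ?_
  have hd' : d ∈ cz e ⊓ cz w := (zpowers_le.mpr hc) hd
  by_cases hrq : r = q
  · subst hrq
    set k := (orderOf e).factorization r with hk
    set t := orderOf e / r ^ k with ht
    have hkt : r ^ k * t = orderOf e := Nat.ordProj_mul_ordCompl_eq_self _ _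
    have hrt : ¬ r ∣ t := Nat.not_dvd_ordCompl hr (orderOf_pos e).ne'
    have hf : e ^ t ∈ center G := by
      have h1 : sz (e ^ t) ∣ D.n := he ▸ index_dvd_of_le (cz_le_of_mem_zpowers (pow_mem (mem_zpowers e) t))
      obtain ⟨j, -, hj⟩ := (Nat.dvd_prime_pow hr).mp
        (orderOf_dvd_of_pow_eq_one (show (e ^ t) ^ r ^ k = 1 by rw [← pow_mul, mul_comm, hkt, pow_orderOf_eq_one]))
      exact D.central_of_coprime_m hr hj (D.hcop.symm.coprime_dvd_left h1) hqm
    have hcz : cz (e ^ r ^ k) = cz e := by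
      refine le_antisymm (fun g hg => mem_cz.mpr ?_) (cz_le_of_mem_zpowers (pow_mem (mem_zpowers e) _))
      have e1 : e = (e ^ r ^ k) ^ Nat.gcdA (r ^ k) t * (e ^ t) ^ Nat.gcdB (r ^ k) t := by
        rw [← zpow_natCast e t, ← zpow_natCast e (r ^ k), ← zpow_mul, ← zpow_mul, ← zpow_add,
          ← Nat.gcd_eq_gcd_ab, (coprime_pow hr hrt).gcd_eq_one]
        simp
      rw [e1]
      exact (Commute.zpow_right (mem_cz.mp hg) _).mul_right (Commute.zpow_right (mem_center_iff.mp hf g) _)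
    have hcop' : (orderOf (e ^ r ^ k)).Coprime (orderOf d) := by
      refine Nat.Coprime.coprime_dvd_left (orderOf_dvd_of_pow_eq_one (show (e ^ r ^ k) ^ t = 1 by
        rw [← pow_mul, hkt, pow_orderOf_eq_one])) ?_
      rw [ho]; exact (coprime_pow hr hrt).symm
    have h := cz_mul (Commute.pow_left (mem_cz.mp hd'.1).symm (r ^ k)) hcop'
    have h1 : sz (e ^ r ^ k * d) = D.n :=
      D.dvd_n_eq (he ▸ index_dvd_of_le (h.le.trans (inf_le_left.trans hcz.le)))
    have h2 : cz (e ^ r ^ k * d) = cz e :=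
      eq_of_le_of_sz_le (h.le.trans (inf_le_left.trans hcz.le)) (le_of_eq (h1.trans he.symm))
    have h3 : sz d ∣ D.n := he ▸ index_dvd_of_le (h2 ▸ h.le.trans inf_le_right)
    exact D.central_of_coprime_m hr ho (D.hcop.symm.coprime_dvd_left h3) hqm
  · by_contra hnc
    exact hnc (D.two_primes hq hwo hw he hd'.2 (ho ▸ ((Nat.coprime_primes hr hq).mpr hrq).pow_left b) hnc hd')

theorem relIndex_center_w {w : G} {q a : ℕ} (hq : q.Prime) (hwo : orderOf w = q ^ a) (hw : sz w = D.m) :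
    (center G).relIndex (cz w) = D.n := by
  rw [← D.inf_eq_center hq hwo hw D.hx]; exact (D.inf_relIndex_w hw D.hx).1

theorem relIndex_center_e {e : G} (he : sz e = D.n) : (center G).relIndex (cz e) = D.m := by
  obtain ⟨w, q, a, hq, hwo, hw, -⟩ := D.exists_part_m
  rw [← D.inf_eq_center hq hwo hw he]; exact (D.inf_relIndex_w hw he).2

/-- the subgroup of commutators with an element of class size `n` avoids the small centralizers -/
theorem comSub_inf {e w : G} {q a : ℕ} (hq : q.Prime) (hwo : orderOf w = q ^ a) (hw : sz w = D.m)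
    (he : sz e = D.n) {d : G} (hd : d ∈ comSub e) (hdw : d ∈ cz w) : d = 1 := by
  obtain ⟨h1, -, -, -, -, h6⟩ := D.comSub_of_coprime (u := e) (he ▸ D.hcop.symm)
  obtain ⟨g, hg⟩ := h6 w hw d hd
  have h2 : d ^ q ^ a = 1 := by
    have h3 : (d * w) ^ q ^ a = 1 := by rw [← hg, conj_pow, ← hwo, pow_orderOf_eq_one]; simp
    rwa [Commute.mul_pow (mem_cz.mp hdw), ← hwo, pow_orderOf_eq_one, mul_one, hwo] at h3
  have h3 : d ^ D.m = 1 := orderOf_dvd_iff_pow_eq_one.mp ((orderOf_dvd_natCard _ hd).trans h1)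
  exact orderOf_eq_one_iff.mp (Nat.eq_one_of_dvd_coprimes
    (coprime_pow hq (D.not_dvd_m hq (D.q_dvd_n hq hwo hw)) (a := a)) (orderOf_dvd_of_pow_eq_one h2)
    (orderOf_dvd_of_pow_eq_one h3))

theorem exists_rep {e : G} (he : sz e = D.n) : ∃ h ∈ comSub e, cz h = cz e := by
  obtain ⟨w, q, a, hq, hwo, hw, -⟩ := D.exists_part_m
  obtain ⟨h1, -, h3, -, -, -⟩ := D.comSub_of_coprime (u := e) (he ▸ D.hcop.symm)
  have hS : Nat.card {z : G | e⁻¹ * z ∈ comSub e} = Nat.card (comSub e) :=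
    Nat.card_congr ((Equiv.mulLeft e⁻¹).subtypeEquiv fun z => Iff.rfl)
  obtain ⟨z, hz, hzw⟩ := exists_fixed hq hwo {z : G | e⁻¹ * z ∈ comSub e} (fun z hz => by
    have h := mul_mem (mem_comSub e w) ((comSub_normal e).conj_mem _ hz w)
    show e⁻¹ * (w * z * w⁻¹) ∈ comSub e
    rwa [show e⁻¹ * (w * e * w⁻¹) * (w * (e⁻¹ * z) * w⁻¹) = e⁻¹ * (w * z * w⁻¹) by group] at h)
    (hS ▸ fun h => D.not_dvd_m hq (D.q_dvd_n hq hwo hw) (h.trans h1))
  have hze : z ∈ cz e := by
    have h := mul_mem (mem_cz_self e) (h3 hz)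
    rwa [mul_inv_cancel_left] at h
  have hzc : z ∈ center G := (D.inf_eq_center hq hwo hw he).le ⟨hze, hzw⟩
  refine ⟨e⁻¹ * z, hz, le_antisymm (fun g hg => mem_cz.mpr ?_) fun g hg => mem_cz.mpr ?_⟩
  · have h := (Commute.mul_right (mem_cz.mp hg) (Commute.inv_right (mem_center_iff.mp hzc g)))
    rw [mul_inv_cancel_right] at h
    exact (inv_inv e) ▸ Commute.inv_right h
  · exact Commute.mul_right (Commute.inv_right (mem_cz.mp hg)) (mem_center_iff.mp hzc g)

/-- the key count -/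
theorem sz_eq_m_of_part {y w : G} {q a r b : ℕ} (hq : q.Prime) (hyo : orderOf y = q ^ a) (hy : sz y = D.m)
    (hr : r.Prime) (hwo : orderOf w = r ^ b) (hwy : w ∈ cz y) (hnc : w ∉ center G) : sz w = D.m := by
  classical
  have hrn : r ∣ D.n := by
    by_contra hrn
    exact hnc (mem_center_of_coprime hwy (hwo ▸ pow_orderOf_eq_one w)
      ((D.relIndex_center_w hq hyo hy).symm ▸ (coprime_pow hr hrn).symm))
  have hrm := D.not_dvd_m hr hrn
  refine (D.sz_cases w).resolve_right fun hle => ?_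
  obtain ⟨h0, hh0, hcz⟩ := D.exists_rep D.hx
  set H := comSub D.x with hH
  obtain ⟨hc1, -, hc3, hc4, -, -⟩ := D.comSub_of_coprime (u := D.x) (D.hx ▸ D.hcop.symm)
  have hHh : H ≤ cz h0 := hcz ▸ hc3
  have hszh : sz h0 = D.n := by rw [sz, hcz]; exact D.hx
  have hh1 : h0 ≠ 1 := fun h => by
    have h1 : cz h0 = ⊤ := (Subgroup.eq_top_iff' _).mpr fun g => mem_cz.mpr (by simp [h])
    have := hszh
    rw [sz, h1, index_top] at this
    have := D.hn
    omega
  have hbig : D.n < Nat.card H := by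
    rw [← hszh, ← card_cls]
    refine card_lt_of
      (fun z : cls h0 => (⟨(z : G), ?_⟩ : H)) ?_ ?_
    · obtain ⟨g, hg⟩ := z.2
      exact hg ▸ (comSub_normal D.x).conj_mem _ hh0 g
    · exact fun z z' h => Subtype.ext (congrArg (fun t : H => (t : G)) h)
    · intro hs
      obtain ⟨⟨z, g, hg⟩, hz⟩ := hs 1
      have hz' : z = 1 := congrArg Subtype.val hz
      exact hh1 (conj_eq_one_iff.mp (hg.trans hz'))
  have hwH : ∀ d ∈ H, ∀ c : G, c * d * c⁻¹ ∈ H := fun d hd c => (comSub_normal D.x).conj_mem d hd c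
  let φ : H →* G := MonoidHom.mk' (fun d => (d : G)⁻¹ * (w * (d : G) * w⁻¹)) fun d d' => by
    show ((d : G) * d')⁻¹ * (w * ((d : G) * d') * w⁻¹) = (d : G)⁻¹ * (w * d * w⁻¹) * ((d' : G)⁻¹ * (w * d' * w⁻¹))
    have e1 := hc4 _ (inv_mem d'.2) _ (mul_mem (inv_mem d.2) (hwH d d.2 w))
    calc ((d : G) * d')⁻¹ * (w * ((d : G) * d') * w⁻¹)
        = ((d' : G)⁻¹ * ((d : G)⁻¹ * (w * d * w⁻¹))) * (w * d' * w⁻¹) := by group
      _ = _ := by rw [e1]; group
  have hW : ∀ d, φ d ∈ H := fun d => mul_mem (inv_mem d.2) (hwH d d.2 w)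
  have hker : φ.ker = (cz w).subgroupOf H := by
    ext d
    show (d : G)⁻¹ * (w * (d : G) * w⁻¹) = 1 ↔ (d : G) ∈ cz w
    rw [inv_mul_eq_one, mem_cz, eq_mul_inv_iff_mul_eq]
  have hWc : Nat.card φ.range = (cz w).relIndex H := by
    rw [← Nat.card_congr (QuotientGroup.quotientKerEquivRange φ).toEquiv, hker]; rfl
  have hconj : ∀ c ∈ cz w, ∀ d ∈ φ.range, c * d * c⁻¹ ∈ φ.range := by
    rintro c hc _ ⟨d, rfl⟩
    refine ⟨⟨c * d * c⁻¹, hwH d d.2 c⟩, ?_⟩
    show (c * (d : G) * c⁻¹)⁻¹ * (w * (c * (d : G) * c⁻¹) * w⁻¹) = c * ((d : G)⁻¹ * (w * d * w⁻¹)) * c⁻¹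
    have h : w * c = c * w := (mem_cz.mp hc).symm
    calc (c * (d : G) * c⁻¹)⁻¹ * (w * (c * (d : G) * c⁻¹) * w⁻¹)
        = c * (d : G)⁻¹ * c⁻¹ * ((w * c) * (d : G) * (w * c)⁻¹) := by group
      _ = _ := by rw [h]; group
  obtain ⟨u1, hu1, hu1w, hu1ne⟩ : ∃ u1 ∈ H, u1 ∈ cz w ∧ u1 ≠ 1 := by
    by_contra hc
    push Not at hc
    refine absurd hle (not_le.mpr (hbig.trans_le ?_))
    rw [← card_cls]
    refine Nat.card_le_card_of_injective (fun d : H => (⟨(d : G)⁻¹ * w * (d : G), ⟨(d : G)⁻¹, by group⟩⟩ : cls w))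
      fun d d' h => ?_
    have h' : (d : G)⁻¹ * w * (d : G) = (d' : G)⁻¹ * w * (d' : G) := congrArg Subtype.val h
    have h'' := hc ((d' : G) * (d : G)⁻¹) (mul_mem d'.2 (inv_mem d.2)) (mem_cz.mpr ?_)
    · exact Subtype.ext (mul_inv_eq_one.mp h'').symm
    · calc (d' : G) * (d : G)⁻¹ * w = (d' : G) * ((d : G)⁻¹ * w * d) * (d : G)⁻¹ := by group
        _ = w * ((d' : G) * (d : G)⁻¹) := by rw [h']; group
  set S : Set G := {z : G | h0⁻¹ * z ∈ φ.range} with hSdef
  have hScard : Nat.card S = Nat.card φ.range :=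
    Nat.card_congr ((Equiv.mulLeft h0⁻¹).subtypeEquiv fun z => Iff.rfl)
  obtain ⟨u0, hu0S, hu0w⟩ := exists_fixed hr hwo S (fun z hz => by
    have h := mul_mem (show h0⁻¹ * (w * h0 * w⁻¹) ∈ φ.range from ⟨⟨h0, hh0⟩, rfl⟩)
      (hconj w (mem_cz_self w) _ hz)
    show h0⁻¹ * (w * z * w⁻¹) ∈ φ.range
    rwa [show h0⁻¹ * (w * h0 * w⁻¹) * (w * (h0⁻¹ * z) * w⁻¹) = h0⁻¹ * (w * z * w⁻¹) by group] at h)
    (fun h => hrm ((h.trans (by rw [hScard, hWc]; exact relIndex_dvd_card _ _)).trans hc1))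
  have hu0H : u0 ∈ H := by
    obtain ⟨d, hd⟩ := hu0S
    have := mul_mem hh0 (hW d)
    rwa [hd, mul_inv_cancel_left] at this
  obtain ⟨u, huH, huw, hune, hfix⟩ : ∃ u ∈ H, u ∈ cz w ∧ u ≠ 1 ∧ cz u ≤ cz u0 := by
    by_cases h : u0 = 1
    · exact ⟨u1, hu1, hu1w, hu1ne, fun c _ => mem_cz.mpr (by simp [h])⟩
    · exact ⟨u0, hu0H, hu0w, h, le_rfl⟩
  have hK := cz_mul (mem_cz.mp huw) (show (orderOf u).Coprime (orderOf w) by
    rw [hwo]
    exact ((coprime_pow hr hrm).symm.coprime_dvd_left ((orderOf_dvd_natCard _ huH).trans hc1)))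
  set K := cz (u * w) with hKdef
  have hKw : K ≤ cz w := hK.le.trans inf_le_right
  have hK0 : K ≤ cz u0 := hK.le.trans (inf_le_left.trans hfix)
  have hh0w : h0 ∉ cz w := fun h => hnc ((D.inf_eq_center hq hyo hy D.hx).le
    ⟨hcz ▸ mem_cz.mpr (mem_cz.mp h).symm, hwy⟩)
  have horb : (cz h0).relIndex K < Nat.card φ.range := by
    rw [← hScard]
    let f : K ⧸ (cz h0).subgroupOf K → S := Quotient.lift (fun c : K => (⟨(c : G) * h0 * (c : G)⁻¹, ?_⟩ : S)) ?_
    rotate_left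
    · have h1 := hconj c (hKw c.2) _ hu0S
      have h2 := conj_eq_of_mem (hK0 c.2)
      show h0⁻¹ * ((c : G) * h0 * (c : G)⁻¹) ∈ φ.range
      have e : h0⁻¹ * ((c : G) * h0 * (c : G)⁻¹) = h0⁻¹ * u0 * ((c : G) * (h0⁻¹ * u0) * (c : G)⁻¹)⁻¹ := by
        rw [show (c : G) * (h0⁻¹ * u0) * (c : G)⁻¹ = ((c : G) * h0⁻¹ * (c : G)⁻¹) * ((c : G) * u0 * (c : G)⁻¹) by group, h2]
        group
      rw [e]; exact mul_mem hu0S (inv_mem h1)
    · intro c c' h
      refine Subtype.ext ?_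
      have h' := conj_eq_of_mem (mem_subgroupOf.mp (QuotientGroup.leftRel_apply.mp h))
      show (c : G) * h0 * (c : G)⁻¹ = (c' : G) * h0 * (c' : G)⁻¹
      rw [Subgroup.coe_mul, Subgroup.coe_inv] at h'
      calc (c : G) * h0 * (c : G)⁻¹ = c * ((c : G)⁻¹ * c' * h0 * ((c : G)⁻¹ * c')⁻¹) * (c : G)⁻¹ := by rw [h']
        _ = _ := by group
    refine card_lt_of f ?_ ?_
    · intro c c'
      induction c using QuotientGroup.induction_on with
      | H c => induction c' using QuotientGroup.induction_on with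
        | H c' =>
          intro h
          have h' : (c : G) * h0 * (c : G)⁻¹ = (c' : G) * h0 * (c' : G)⁻¹ := congrArg Subtype.val h
          refine QuotientGroup.eq.mpr (mem_subgroupOf.mpr (mem_of_conj_eq ?_))
          rw [Subgroup.coe_mul, Subgroup.coe_inv]
          calc (c : G)⁻¹ * c' * h0 * ((c : G)⁻¹ * c')⁻¹ = (c : G)⁻¹ * ((c' : G) * h0 * (c' : G)⁻¹) * c := by group
            _ = h0 := by rw [← h']; group
    · intro hs
      obtain ⟨c, hc⟩ := hs ⟨u0, hu0S⟩
      induction c using QuotientGroup.induction_on with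
      | H c =>
        have h' : (c : G) * h0 * (c : G)⁻¹ = u0 := congrArg Subtype.val hc
        have h2 := conj_eq_of_mem (hK0 (inv_mem c.2))
        rw [← h', inv_inv] at h2
        apply hh0w
        rw [show h0 = u0 by rw [← h', ← h2]; group]
        exact hu0w
  have hbound : Nat.card φ.range ≤ K.relIndex (cz h0) := by
    rw [hWc]
    exact (relIndex_le_of_le_left hKw FiniteIndex.index_ne_zero).trans
      (relIndex_le_of_le_right hHh FiniteIndex.index_ne_zero)
  have e1 := relIndex_mul_index (inf_le_left : K ⊓ cz h0 ≤ K)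
  have e2 := relIndex_mul_index (inf_le_right : K ⊓ cz h0 ≤ cz h0)
  rw [inf_relIndex_left, ← e2, inf_relIndex_right, show (cz h0).index = D.n from hszh] at e1
  have hk : sz (u * w) = D.m := by
    refine (D.sz_cases _).resolve_right fun hk => ?_
    have h1 : (cz h0).relIndex K * sz (u * w) < K.relIndex (cz h0) * D.n :=
      (Nat.mul_le_mul_left _ hk).trans_lt (Nat.mul_lt_mul_of_pos_right (horb.trans_le hbound) (by have := D.hn; omega))
    exact h1.ne e1
  exact hnc (D.central_of_dvd_m (hk ▸ index_dvd_of_le hKw) hle)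

/-- prime power elements of the large centralizer -/
theorem sz_eq_n_of_part {x e : G} {r b : ℕ} (hx : sz x = D.n) (hr : r.Prime) (heo : orderOf e = r ^ b)
    (hex : e ∈ cz x) (hnc : e ∉ center G) : sz e = D.n := by
  obtain ⟨y, q, a, hq, hyo, hy, -⟩ := D.exists_part_m
  have hrm : r ∣ D.m := by
    by_contra hrm
    exact hnc (mem_center_of_coprime hex (heo ▸ pow_orderOf_eq_one e)
      ((D.relIndex_center_e hx).symm ▸ (coprime_pow hr hrm).symm))
  have hcopr : ((center G).relIndex (cz e)).Coprime D.n := by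
    refine Nat.coprime_of_dvd fun s hs hsC hsn => ?_
    obtain ⟨w, hwe, hwnc, c, hwo⟩ := exists_prime_elt hs hsC
    obtain ⟨g, hg⟩ := exists_conj_mem hs hwo (cz y) (by rw [show (cz y).index = D.m from hy]; exact D.not_dvd_m hs hsn)
    have hgo : orderOf (g⁻¹ * w * g) = s ^ c := by
      rw [← hwo]; simpa using orderOf_injective (MulAut.conj g⁻¹).toMonoidHom (MulAut.conj g⁻¹).injective w
    have hwm : sz w = D.m := by
      rw [← D.sz_eq_m_of_part hq hyo hy hs hgo hg fun h => hwnc ?_]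
      · simpa using (sz_conj g⁻¹ w).symm
      · have := (inferInstance : (center G).Normal).conj_mem _ h g
        simpa [mul_assoc] using this
    have hne : r ≠ s := fun h => D.not_dvd_m hs hsn (h ▸ hrm)
    have h := (D.coprime_comm hwm (mem_cz.mpr (mem_cz.mp hwe).symm)
      (heo ▸ hwo ▸ ((Nat.coprime_primes hr hs).mpr hne).pow b c)).resolve_left hnc
    have hem : sz e = D.m := by rw [sz, h]; exact hwm
    exact D.not_dvd_m hr (D.q_dvd_n hr heo hem) hrm
  have e1 := relIndex_mul_index (center_le e)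
  have e2 := relIndex_mul_index (center_le x)
  rw [D.relIndex_center_e hx, show (cz x).index = D.n from hx] at e2
  exact D.dvd_n_eq (hcopr.symm.dvd_of_dvd_mul_left ⟨D.m, by rw [e1, ← e2, mul_comm]⟩)

theorem comSub_le {x e : G} (hx : sz x = D.n) (he : sz e = D.n) : comSub e ≤ cz x :=
  relIndex_eq_one.mp (Nat.eq_one_of_dvd_coprimes D.hcop
    ((relIndex_dvd_card _ _).trans (D.comSub_of_coprime (u := e) (he ▸ D.hcop.symm)).1)
    (hx ▸ relIndex_dvd_of_normal _ _))

theorem normal_cz {x : G} (hx : sz x = D.n) : (cz x).Normal := by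
  refine ⟨fun c hc g => ?_⟩
  suffices c ∈ (cz x).comap (MulAut.conj g).toMonoidHom from this
  refine mem_of_parts _ _ fun d hd r b hr ho => ?_
  have hdx : d ∈ cz x := (zpowers_le.mpr hc) hd
  show g * d * g⁻¹ ∈ cz x
  by_cases hnc : d ∈ center G
  · exact center_le x ((inferInstance : (center G).Normal).conj_mem _ hnc g)
  · have h := mul_mem hdx (D.comSub_le hx (D.sz_eq_n_of_part hx hr ho hdx hnc) (mem_comSub d g))
    rwa [mul_inv_cancel_left] at h

theorem abelian_x {x c : G} (hx : sz x = D.n) (hc : c ∈ cz x) : cz x ≤ cz c := by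
  intro g hg
  suffices c ∈ cz g from mem_cz.mpr (mem_cz.mp this).symm
  refine mem_of_parts _ _ fun d hd r b hr ho => ?_
  have hdx : d ∈ cz x := (zpowers_le.mpr hc) hd
  by_cases hnc : d ∈ center G
  · exact center_le g hnc
  have hdn := D.sz_eq_n_of_part hx hr ho hdx hnc
  haveI := D.normal_cz hdn
  have hle : cz x ≤ cz d := relIndex_eq_one.mp (Nat.eq_one_of_dvd_coprimes D.hcop
    (D.relIndex_center_e hx ▸ relIndex_dvd_of_le_left _ (center_le d))
    (hdn ▸ relIndex_dvd_index_of_normal _ _))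
  exact mem_cz.mpr (mem_cz.mp (hle hg)).symm

/-- commutators in the centre vanish -/
theorem comm_trick {y w x t : G} {q a : ℕ} (hq : q.Prime) (hyo : orderOf y = q ^ a) (hy : sz y = D.m)
    (hx : sz x = D.n) (hw : w ∈ cz y) (ht : t ∈ cz x) (h : t * w * t⁻¹ * w⁻¹ ∈ center G) : t ∈ cz w := by
  set z := t * w * t⁻¹ * w⁻¹ with hz
  have hpow : ∀ j : ℕ, t ^ j * w * (t ^ j)⁻¹ = z ^ j * w := by
    intro j
    induction j with
    | zero => simp
    | succ j ih =>
      calc t ^ (j + 1) * w * (t ^ (j + 1))⁻¹ = t * (t ^ j * w * (t ^ j)⁻¹) * t⁻¹ := by group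
        _ = t * z ^ j * t⁻¹ * (t * w * t⁻¹) := by rw [ih]; group
        _ = z ^ j * (z * w) := by rw [mem_center_iff.mp (pow_mem h j) t, mul_inv_cancel_right, hz]; group
        _ = z ^ (j + 1) * w := by group
  have h1 : z ^ D.m = 1 := by
    have h2 := hpow D.m
    have h3 := mem_center_iff.mp (D.relIndex_center_e hx ▸ pow_relIndex_mem_center ht) w
    rw [← h3, mul_inv_cancel_right] at h2
    exact mul_eq_right.mp h2.symm
  have h2 : z ^ D.n = 1 := by
    have h3 := mem_center_iff.mp (D.relIndex_center_w hq hyo hy ▸ pow_relIndex_mem_center hw) t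
    have h4 : (t * w * t⁻¹) ^ D.n = w ^ D.n := by rw [conj_pow, h3, mul_inv_cancel_right]
    have h5 : t * w * t⁻¹ = z * w := by simpa using hpow 1
    rw [h5, Commute.mul_pow (mem_center_iff.mp h w).symm] at h4
    exact mul_eq_right.mp h4
  have h6 : z = 1 := orderOf_eq_one_iff.mp (Nat.eq_one_of_dvd_coprimes D.hcop (orderOf_dvd_of_pow_eq_one h1)
    (orderOf_dvd_of_pow_eq_one h2))
  refine mem_of_conj_eq ?_
  rw [show t * w * t⁻¹ = z * w by rw [hz]; group, h6, one_mul]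

theorem cz_le_y {y w : G} {q a : ℕ} (hq : q.Prime) (hyo : orderOf y = q ^ a) (hy : sz y = D.m)
    {r b : ℕ} (hr : r.Prime) (hwo : orderOf w = r ^ b) (hwy : w ∈ cz y) (hnc : w ∉ center G) : cz w ≤ cz y := by
  intro c hc
  have hwm := D.sz_eq_m_of_part hq hyo hy hr hwo hwy hnc
  obtain ⟨t, ht, s, hs, rfl⟩ := exists_mem_cz (show (sz D.x).Coprime (sz y) by rw [D.hx, hy]; exact D.hcop.symm) c
  haveI := D.normal_cz D.hx
  have hin : (cz D.x ⊓ cz y) = center G := D.inf_eq_center hq hyo hy D.hx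
  have h1 : t⁻¹ * w * t = s * w * s⁻¹ := by
    have h := conj_eq_of_mem hc
    calc t⁻¹ * w * t = t⁻¹ * (t * s * w * (t * s)⁻¹) * t := by rw [h]
      _ = _ := by group
  have h2 : t⁻¹ * w * t * w⁻¹ ∈ cz y := by rw [h1]; exact mul_mem (mul_mem (mul_mem hs hwy) (inv_mem hs)) (inv_mem hwy)
  have h3 : t⁻¹ * w * t * w⁻¹ ∈ cz D.x := by
    have := mul_mem (inv_mem ht) ((D.normal_cz D.hx).conj_mem _ ht w)
    rwa [show t⁻¹ * (w * t * w⁻¹) = t⁻¹ * w * t * w⁻¹ by group] at this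
  have h4 : t⁻¹ ∈ cz w := D.comm_trick hq hyo hy D.hx hwy (inv_mem (S := Subgroup G) ht) (by rw [inv_inv]; exact hin.le ⟨h3, h2⟩)
  have h5 : t⁻¹ ∈ center G := (D.inf_eq_center hr hwo hwm D.hx).le ⟨inv_mem (s := cz D.x) ht, h4⟩
  exact mul_mem (center_le y (inv_inv t ▸ inv_mem h5)) hs

theorem abelian_y {c : G} (hc : c ∈ cz D.y) : cz D.y ≤ cz c := by
  obtain ⟨y, q, a, hq, hyo, hy, hcy⟩ := D.exists_part_m
  rw [← hcy] at hc ⊢
  intro g hg
  suffices c ∈ cz g from mem_cz.mpr (mem_cz.mp this).symm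
  refine mem_of_parts _ _ fun d hd r b hr ho => ?_
  have hdy : d ∈ cz y := (zpowers_le.mpr hc) hd
  by_cases hnc : d ∈ center G
  · exact center_le g hnc
  have h := eq_of_le_of_sz_le (D.cz_le_y hq hyo hy hr ho hdy hnc)
    (le_of_eq ((D.sz_eq_m_of_part hq hyo hy hr ho hdy hnc).trans hy.symm))
  exact mem_cz.mpr (mem_cz.mp (h.symm ▸ hg : g ∈ cz d)).symm

theorem cz_eq_y {c : G} (hc : c ∈ cz D.y) (hnc : c ∉ center G) : cz c = cz D.y := by
  obtain ⟨y, q, a, hq, hyo, hy, hcy⟩ := D.exists_part_m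
  refine le_antisymm (fun g hg => ?_) (D.abelian_y hc)
  by_contra hgy
  refine hnc (mem_of_parts _ _ fun d hd r b hr ho => ?_)
  by_contra hdnc
  rw [← hcy] at hc hgy
  exact hgy (D.cz_le_y hq hyo hy hr ho ((zpowers_le.mpr hc) hd) hdnc (cz_le_of_mem_zpowers hd hg))

end Hyp

end Cfsg.Agent.CoprimeClass
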