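import Mathlib.GroupTheory.Sylow
import Mathlib.GroupTheory.PGroup
import Mathlib.Algebra.Group.Action.Pointwise.Set.Basic

/-!
Products of two conjugacy classes of coprime sizes.
-/

set_option autoImplicit false
set_option linter.unusedSectionVars false

namespace Cfsg.Agent.CoprimeClass

open Subgroup
open scoped Pointwise

variable {G : Type*} [Group G]

/-- the centralizer of an element -/
abbrev cz (u : G) : Subgroup G := centralizer ({u} : Set G)

/-- the size of the class of an element -/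
noncomputable abbrev sz (u : G) : ℕ := (cz u).index

theorem mem_cz {u c : G} : c ∈ cz u ↔ c * u = u * c := by
  rw [mem_centralizer_iff]; simp [eq_comm]

theorem conj_eq_of_mem {u c : G} (h : c ∈ cz u) : c * u * c⁻¹ = u := by
  rw [mem_cz.mp h, mul_inv_cancel_right]

theorem mem_of_conj_eq {u c : G} (h : c * u * c⁻¹ = u) : c ∈ cz u := by
  rw [mem_cz]; exact mul_inv_eq_iff_eq_mul.mp h

theorem center_le (u : G) : center G ≤ cz u := fun c hc => mem_cz.mpr ((mem_center_iff.mp hc u).symm)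

theorem central_of_sz_one {u : G} (h : sz u ≤ 1) [Finite G] : u ∈ center G := by
  have h1 : cz u = ⊤ := index_eq_one.mp (le_antisymm h (Nat.pos_of_ne_zero FiniteIndex.index_ne_zero))
  exact mem_center_iff.mpr fun g => mem_cz.mp (h1 ▸ mem_top g)

theorem cz_le_of_mem_zpowers {c d : G} (h : d ∈ zpowers c) : cz c ≤ cz d := fun g hg => by
  obtain ⟨i, rfl⟩ := mem_zpowers_iff.mp h
  exact mem_cz.mpr (Commute.zpow_right (mem_cz.mp hg) i)

/-- commuting elements of coprime orders: the centralizer of the product -/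
theorem cz_mul {u v : G} (hc : Commute u v) (hcop : (orderOf u).Coprime (orderOf v)) :
    cz (u * v) = cz u ⊓ cz v := by
  refine le_antisymm (fun g hg => ?_) fun g hg => mem_cz.mpr
    (Commute.mul_right (mem_cz.mp hg.1) (mem_cz.mp hg.2))
  have hu : g ∈ cz (u ^ orderOf v) := by
    have := cz_le_of_mem_zpowers (pow_mem (mem_zpowers (u * v)) (orderOf v)) hg
    rwa [hc.mul_pow, pow_orderOf_eq_one, mul_one] at this
  have hu' : u ∈ zpowers (u ^ orderOf v) := by
    obtain ⟨k, hk⟩ := exists_pow_eq_self_of_coprime (x := u) hcop.symm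
    exact ⟨(k : ℤ), by simpa using hk⟩
  have h1 := cz_le_of_mem_zpowers hu' hu
  refine ⟨h1, mem_cz.mpr ?_⟩
  have h2 : Commute g (u⁻¹ * (u * v)) := Commute.mul_right (Commute.inv_right (mem_cz.mp h1)) (mem_cz.mp hg)
  rwa [inv_mul_cancel_left] at h2

/-- a property closed under products holds at `c` if it holds at all its prime power parts -/
theorem mem_of_parts [Finite G] (S : Subgroup G) (c : G)
    (h : ∀ d ∈ zpowers c, ∀ r a : ℕ, r.Prime → orderOf d = r ^ a → d ∈ S) : c ∈ S := by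
  have key : ∀ k : ℕ, ∀ d ∈ zpowers c, orderOf d ∣ k → k ≠ 0 → d ∈ S := by
    intro k
    induction k using Nat.recOnPrimeCoprime with
    | zero => intro d _ _ h0; exact absurd rfl h0
    | prime_pow r a hr =>
      intro d hd hdk _
      obtain ⟨b, -, hb⟩ := (Nat.dvd_prime_pow hr).mp hdk
      exact h d hd r b hr hb
    | coprime k1 k2 _ _ hcop ih1 ih2 =>
      intro d hd hdk h0
      have e : d = (d ^ k1) ^ (Nat.gcdA k1 k2) * (d ^ k2) ^ (Nat.gcdB k1 k2) := by
        rw [← zpow_natCast d k1, ← zpow_natCast d k2, ← zpow_mul, ← zpow_mul, ← zpow_add, ← Nat.gcd_eq_gcd_ab,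
          hcop.gcd_eq_one]
        simp
      rw [e]
      refine mul_mem (zpow_mem (ih2 _ (pow_mem hd _) ?_ (by omega)) _) (zpow_mem (ih1 _ (pow_mem hd _) ?_ (by omega)) _)
      · exact orderOf_dvd_of_pow_eq_one (by rw [← pow_mul]; exact orderOf_dvd_iff_pow_eq_one.mp hdk)
      · exact orderOf_dvd_of_pow_eq_one (by rw [← pow_mul, mul_comm]; exact orderOf_dvd_iff_pow_eq_one.mp hdk)
  exact key _ c (mem_zpowers c) dvd_rfl (orderOf_pos c).ne'

/-- the subgroup generated by the commutators with `u` -/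
def comSub (u : G) : Subgroup G := normalClosure (Set.range fun g : G => u⁻¹ * (g * u * g⁻¹))

instance comSub_normal (u : G) : (comSub u).Normal := normalClosure_normal

theorem mem_comSub (u g : G) : u⁻¹ * (g * u * g⁻¹) ∈ comSub u := subset_normalClosure ⟨g, rfl⟩

theorem relIndex_dvd_of_normal (C H : Subgroup G) [H.Normal] [Finite G] : C.relIndex H ∣ C.index := by
  have h1 : H.relIndex C ∣ H.index := relIndex_dvd_index_of_normal H C
  obtain ⟨t, ht⟩ := h1
  have e1 := relIndex_mul_index (inf_le_left : H ⊓ C ≤ H)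
  have e2 := relIndex_mul_index (inf_le_right : H ⊓ C ≤ C)
  rw [inf_relIndex_left] at e1
  rw [inf_relIndex_right] at e2
  rw [← e2, ht] at e1
  have hpos : 0 < H.relIndex C := Nat.pos_of_ne_zero fun h0 => by
    rw [h0, zero_mul] at ht; exact FiniteIndex.index_ne_zero ht
  refine ⟨t, Nat.eq_of_mul_eq_mul_left hpos ?_⟩
  rw [← e1]; ring

variable [Finite G]

/-- the second class is a single orbit of the first centralizer -/
theorem exists_mem_cz {u v : G} (hcop : (sz u).Coprime (sz v)) (g : G) :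
    ∃ a ∈ cz u, ∃ b ∈ cz v, g = a * b := by
  classical
  have h1 : sz v ∣ (cz v).relIndex (cz u) := by
    have e1 := relIndex_mul_index (inf_le_left : cz u ⊓ cz v ≤ cz u)
    have e2 := index_dvd_of_le (inf_le_right : cz u ⊓ cz v ≤ cz v)
    rw [inf_relIndex_left] at e1
    rw [← e1] at e2
    exact hcop.symm.dvd_of_dvd_mul_right e2
  let f : cz u ⧸ (cz v).subgroupOf (cz u) → G ⧸ cz v :=
    Quotient.map' (fun a => (a : G)) fun a b hab => by
      rw [QuotientGroup.leftRel_apply] at hab ⊢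
      exact hab
  have hf : Function.Injective f := by
    intro a b
    induction a using QuotientGroup.induction_on with
    | H a => induction b using QuotientGroup.induction_on with
      | H b => exact fun h => QuotientGroup.eq.mpr (mem_subgroupOf.mpr (QuotientGroup.eq.mp h))
  have hle : Nat.card (G ⧸ cz v) ≤ Nat.card (cz u ⧸ (cz v).subgroupOf (cz u)) :=
    Nat.le_of_dvd Nat.card_pos h1
  obtain ⟨a, ha⟩ := (hf.bijective_of_nat_card_le hle).2 (QuotientGroup.mk g)
  induction a using QuotientGroup.induction_on with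
  | H a => exact ⟨a, a.2, (a : G)⁻¹ * g, QuotientGroup.eq.mp ha, by group⟩

theorem inf_index {u v : G} (hcop : (sz u).Coprime (sz v)) : (cz u ⊓ cz v).index = sz u * sz v :=
  le_antisymm index_inf_le
    (Nat.le_of_dvd (Nat.pos_of_ne_zero FiniteIndex.index_ne_zero)
      (hcop.mul_dvd_of_dvd_of_dvd (index_dvd_of_le inf_le_left) (index_dvd_of_le inf_le_right)))

theorem sz_mul_dvd {u v : G} (hcop : (sz u).Coprime (sz v)) : sz (u * v) ∣ sz u * sz v := by
  rw [← inf_index hcop]
  exact index_dvd_of_le fun g hg => mem_cz.mpr (Commute.mul_right (mem_cz.mp hg.1) (mem_cz.mp hg.2))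

/-- the product of the two classes is one class -/
theorem class_mul {u v : G} (hcop : (sz u).Coprime (sz v)) (g h : G) :
    ∃ c : G, g * u * g⁻¹ * (h * v * h⁻¹) = c * (u * v) * c⁻¹ := by
  obtain ⟨a, ha, b, hb, hab⟩ := exists_mem_cz hcop (g⁻¹ * h)
  refine ⟨g * a, ?_⟩
  have e : h = g * a * b := by rw [mul_assoc, ← hab, mul_inv_cancel_left]
  calc g * u * g⁻¹ * (h * v * h⁻¹) = g * u * g⁻¹ * (g * a * (b * v * b⁻¹) * a⁻¹ * g⁻¹) := by rw [e]; group
    _ = g * u * g⁻¹ * (g * a * v * a⁻¹ * g⁻¹) := by rw [conj_eq_of_mem hb]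
    _ = g * (a * u * a⁻¹) * g⁻¹ * (g * a * v * a⁻¹ * g⁻¹) := by rw [conj_eq_of_mem ha]
    _ = g * a * (u * v) * (g * a)⁻¹ := by group

/-- the conjugates of `v` -/
def cls (v : G) : Set G := Set.range fun g : G => g * v * g⁻¹

theorem card_cls (v : G) : Nat.card (cls v) = sz v := by
  refine (Nat.card_eq_of_bijective (Quotient.lift (fun g : G => (⟨g * v * g⁻¹, ⟨g, rfl⟩⟩ : cls v)) ?_ :
    G ⧸ cz v → cls v) ⟨?_, ?_⟩).symm
  · intro a b hab
    refine Subtype.ext ?_
    have := conj_eq_of_mem (QuotientGroup.leftRel_apply.mp hab)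
    show a * v * a⁻¹ = b * v * b⁻¹
    calc a * v * a⁻¹ = a * (a⁻¹ * b * v * (a⁻¹ * b)⁻¹) * a⁻¹ := by rw [this]
      _ = b * v * b⁻¹ := by group
  · intro a b
    induction a using QuotientGroup.induction_on with
    | H a => induction b using QuotientGroup.induction_on with
      | H b =>
        intro h
        have h' : a * v * a⁻¹ = b * v * b⁻¹ := congrArg Subtype.val h
        refine QuotientGroup.eq.mpr (mem_of_conj_eq ?_)
        calc a⁻¹ * b * v * (a⁻¹ * b)⁻¹ = a⁻¹ * (b * v * b⁻¹) * a := by group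
          _ = v := by rw [← h']; group
  · rintro ⟨_, g, rfl⟩
    exact ⟨QuotientGroup.mk g, rfl⟩

theorem sz_le_sz_mul {u v : G} (hcop : (sz u).Coprime (sz v)) : sz v ≤ sz (u * v) := by
  rw [← card_cls v, ← card_cls (u * v)]
  refine Nat.card_le_card_of_injective (fun z => ⟨u * (z : G), ?_⟩) fun a b h =>
    Subtype.ext (mul_left_cancel (congrArg Subtype.val h))
  obtain ⟨g, hg⟩ := z.2
  obtain ⟨c, hc⟩ := class_mul hcop 1 g
  refine ⟨c, ?_⟩
  show c * (u * v) * c⁻¹ = _
  rw [← hc, ← hg]; group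

theorem mem_stabilizer_cls {u v : G} (hcop : (sz u).Coprime (sz v)) (hs : sz (u * v) = sz v) :
    comSub u ≤ MulAction.stabilizer G (cls v) := by
  have key : ∀ g : G, (g * u * g⁻¹) • cls v = cls (u * v) := by
    intro g
    refine Set.eq_of_subset_of_ncard_le ?_ (le_of_eq ?_) (Set.toFinite _)
    · rintro _ ⟨_, ⟨h, rfl⟩, rfl⟩
      obtain ⟨c, hc⟩ := class_mul hcop g h
      exact ⟨c, hc.symm⟩
    · show (cls (u * v)).ncard = ((fun z => (g * u * g⁻¹) * z) '' cls v).ncard
      rw [Set.ncard_image_of_injective _ (mul_right_injective _), ← Nat.card_coe_set_eq, ← Nat.card_coe_set_eq, card_cls,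
        card_cls, hs]
  refine (normalClosure_le_normal (N := (MulAction.stabilizer G (cls v)).normalCore) ?_).trans (normalCore_le _)
  rintro _ ⟨g, rfl⟩ c
  show (c * (u⁻¹ * (g * u * g⁻¹)) * c⁻¹) • cls v = cls v
  rw [show c * (u⁻¹ * (g * u * g⁻¹)) * c⁻¹ = (c * u * c⁻¹)⁻¹ * ((c * g) * u * (c * g)⁻¹) by group, mul_smul, key,
    inv_smul_eq_iff, key]

theorem translate {u v : G} (hcop : (sz u).Coprime (sz v)) (hs : sz (u * v) = sz v) {d : G} (hd : d ∈ comSub u)
    {z : G} (hz : z ∈ cls v) : d * z ∈ cls v := by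
  rw [← show d • cls v = cls v from mem_stabilizer_cls hcop hs hd]
  exact ⟨z, hz, rfl⟩

/-- the commutator subgroup attached to a class that is absorbed by another one -/
theorem comSub_facts {u v : G} (hcop : (sz u).Coprime (sz v)) (hs : sz (u * v) = sz v) :
    Nat.card (comSub u) ∣ sz v ∧ sz u ≤ Nat.card (comSub u) ∧ comSub u ≤ cz u ∧
      (∀ a ∈ comSub u, ∀ b ∈ comSub u, a * b = b * a) ∧ ∀ d ∈ comSub u, d ^ orderOf u = 1 := by
  classical
  set H := comSub u with hH
  have h1 : Nat.card H ∣ sz v := by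
    rw [← card_cls v]
    have hsat : ((↑) : G → G ⧸ H) ⁻¹' ((↑) '' cls v) = cls v := by
      refine Set.Subset.antisymm ?_ (Set.subset_preimage_image _ _)
      rintro z ⟨w, hw, hwz⟩
      have hd : w⁻¹ * z ∈ H := QuotientGroup.eq.mp hwz
      have := translate hcop hs ((comSub_normal u).conj_mem _ hd w) hw
      rwa [show w * (w⁻¹ * z) * w⁻¹ * w = z by group] at this
    rw [← hsat, Nat.card_congr (QuotientGroup.preimageMkEquivSubgroupProdSet H _), Nat.card_prod]
    exact dvd_mul_right _ _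
  have h2 : H ≤ cz u := relIndex_eq_one.mp
    (Nat.eq_one_of_dvd_coprimes (hcop.symm) ((relIndex_dvd_card (cz u) H).trans h1) (relIndex_dvd_of_normal _ _))
  have h3 : ∀ d ∈ H, ∀ g : G, Commute d (g * u * g⁻¹) := by
    intro d hd g
    have := mem_cz.mp (h2 ((comSub_normal u).conj_mem' d hd g))
    show d * (g * u * g⁻¹) = g * u * g⁻¹ * d
    calc d * (g * u * g⁻¹) = g * (g⁻¹ * d * g * u) * g⁻¹ := by group
      _ = g * (u * (g⁻¹ * d * g)) * g⁻¹ := by rw [this]
      _ = g * u * g⁻¹ * d := by group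
  have hgen : ∀ s : G, s ∈ Group.conjugatesOfSet (Set.range fun g : G => u⁻¹ * (g * u * g⁻¹)) →
      ∃ c g : G, s = (c * u * c⁻¹)⁻¹ * ((c * g) * u * (c * g)⁻¹) := by
    intro s hs
    obtain ⟨_, ⟨g, rfl⟩, hc⟩ := Group.mem_conjugatesOfSet_iff.mp hs
    obtain ⟨c, hc⟩ := isConj_iff.mp hc
    exact ⟨c, g, by rw [← hc]; group⟩
  have h3' : ∀ a ∈ H, ∀ b ∈ H, Commute a b := by
    intro a ha b hb
    refine Subgroup.closure_induction (p := fun b _ => Commute a b) ?_ ?_ ?_ ?_ hb
    · intro s hs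
      obtain ⟨c, g, rfl⟩ := hgen s hs
      exact Commute.mul_right (Commute.inv_right (h3 a ha c)) (h3 a ha (c * g))
    · exact Commute.one_right a
    · exact fun _ _ _ _ => Commute.mul_right
    · exact fun _ _ => Commute.inv_right
  refine ⟨h1, ?_, h2, fun a ha b hb => h3' a ha b hb, fun d hd => ?_⟩
  · rw [← card_cls u]
    refine Nat.card_le_card_of_injective (fun z => ⟨u⁻¹ * (z : G), ?_⟩) fun a b h =>
      Subtype.ext (mul_left_cancel (congrArg Subtype.val h))
    obtain ⟨g, hg⟩ := z.2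
    rw [← hg]; exact mem_comSub u g
  · refine (Subgroup.closure_induction (p := fun d hd => d ^ orderOf u = 1) ?_ ?_ ?_ ?_ hd)
    · intro s hs
      obtain ⟨c, g, rfl⟩ := hgen s hs
      have hmem : (c * u * c⁻¹)⁻¹ * (c * g * u * (c * g)⁻¹) ∈ H := subset_closure hs
      have h4 : Commute (c * u * c⁻¹) ((c * u * c⁻¹)⁻¹ * (c * g * u * (c * g)⁻¹)) := (h3 _ hmem c).symm
      have h5 := h4.mul_pow (orderOf u)
      rwa [mul_inv_cancel_left, conj_pow, conj_pow, pow_orderOf_eq_one, mul_one, mul_inv_cancel, mul_one, mul_inv_cancel,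
        one_mul, eq_comm] at h5
    · exact one_pow _
    · intro a b ha hb ea eb
      rw [(h3' a ha b hb).mul_pow, ea, eb, one_mul]
    · intro a _ ea
      rw [inv_pow, ea, inv_one]

end Cfsg.Agent.CoprimeClass
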