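import Mathlib

/-!
Nilpotent action of a nilpotent subring spanned, in every term of a filtration, by boundedly many
pieces each of which acts nilpotently.
-/

set_option autoImplicit false

namespace Cfsg.Agent.CoprimeClass

variable {M : Type*} [LieRing M]

/-- The additive subgroup spanned by brackets. -/
def br (X Y : AddSubgroup M) : AddSubgroup M :=
  AddSubgroup.closure {z | ∃ x ∈ X, ∃ y ∈ Y, z = ⁅x, y⁆}

/-- Iterated bracket on the right. -/
def brN (T E : AddSubgroup M) : ℕ → AddSubgroup M
  | 0 => T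
  | n + 1 => br (brN T E n) E

theorem mem_br {X Y : AddSubgroup M} {x y : M} (hx : x ∈ X) (hy : y ∈ Y) : ⁅x, y⁆ ∈ br X Y :=
  AddSubgroup.subset_closure ⟨x, hx, y, hy, rfl⟩

theorem br_le {X Y Z : AddSubgroup M} : br X Y ≤ Z ↔ ∀ x ∈ X, ∀ y ∈ Y, ⁅x, y⁆ ∈ Z := by
  refine ⟨fun h x hx y hy => h (mem_br hx hy), fun h => ?_⟩
  rw [br, AddSubgroup.closure_le]
  rintro _ ⟨x, hx, y, hy, rfl⟩
  exact h x hx y hy

theorem br_mono {X X' Y Y' : AddSubgroup M} (h : X ≤ X') (h' : Y ≤ Y') : br X Y ≤ br X' Y' :=
  br_le.mpr fun _ hx _ hy => mem_br (h hx) (h' hy)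

/-- The elements with bracket into `Z` against a fixed right factor. -/
def leftInv (Z : AddSubgroup M) (y : M) : AddSubgroup M where
  carrier := {x | ⁅x, y⁆ ∈ Z}
  add_mem' {a b} ha hb := by simp only [Set.mem_ofPred_eq, add_lie] at *; exact Z.add_mem ha hb
  zero_mem' := by simp [zero_mem]
  neg_mem' {a} ha := by simp only [Set.mem_ofPred_eq, neg_lie] at *; exact Z.neg_mem ha

/-- The elements with bracket into `Z` against a fixed left factor. -/
def rightInv (Z : AddSubgroup M) (x : M) : AddSubgroup M where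
  carrier := {y | ⁅x, y⁆ ∈ Z}
  add_mem' {a b} ha hb := by simp only [Set.mem_ofPred_eq, lie_add] at *; exact Z.add_mem ha hb
  zero_mem' := by simp [zero_mem]
  neg_mem' {a} ha := by simp only [Set.mem_ofPred_eq, lie_neg] at *; exact Z.neg_mem ha

theorem br_iSup_left {ι : Sort*} (X : ι → AddSubgroup M) (Y : AddSubgroup M) :
    br (⨆ i, X i) Y = ⨆ i, br (X i) Y := by
  refine le_antisymm (br_le.mpr fun x hx y hy => ?_) (iSup_le fun i => br_mono (le_iSup X i) le_rfl)
  have : (⨆ i, X i) ≤ leftInv (⨆ i, br (X i) Y) y :=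
    iSup_le fun i z hz => AddSubgroup.mem_iSup_of_mem i (mem_br hz hy)
  exact this hx

theorem br_iSup_right {ι : Sort*} (X : AddSubgroup M) (Y : ι → AddSubgroup M) :
    br X (⨆ i, Y i) = ⨆ i, br X (Y i) := by
  refine le_antisymm (br_le.mpr fun x hx y hy => ?_) (iSup_le fun i => br_mono le_rfl (le_iSup Y i))
  have : (⨆ i, Y i) ≤ rightInv (⨆ i, br X (Y i)) x :=
    iSup_le fun i z hz => AddSubgroup.mem_iSup_of_mem i (mem_br hx hz)
  exact this hy

theorem br_sup_left (X X' Y : AddSubgroup M) : br (X ⊔ X') Y = br X Y ⊔ br X' Y := by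
  refine le_antisymm (br_le.mpr fun x hx y hy => ?_)
    (sup_le (br_mono le_sup_left le_rfl) (br_mono le_sup_right le_rfl))
  have : X ⊔ X' ≤ leftInv (br X Y ⊔ br X' Y) y :=
    sup_le (fun z hz => AddSubgroup.mem_sup_left (mem_br hz hy))
      (fun z hz => AddSubgroup.mem_sup_right (mem_br hz hy))
  exact this hx

theorem br_sup_right (X Y Y' : AddSubgroup M) : br X (Y ⊔ Y') = br X Y ⊔ br X Y' := by
  refine le_antisymm (br_le.mpr fun x hx y hy => ?_)
    (sup_le (br_mono le_rfl le_sup_left) (br_mono le_rfl le_sup_right))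
  have : Y ⊔ Y' ≤ rightInv (br X Y ⊔ br X Y') x :=
    sup_le (fun z hz => AddSubgroup.mem_sup_left (mem_br hx hz))
      (fun z hz => AddSubgroup.mem_sup_right (mem_br hx hz))
  exact this hy

theorem brN_mono {T T' E E' : AddSubgroup M} (h : T ≤ T') (h' : E ≤ E') (n : ℕ) :
    brN T E n ≤ brN T' E' n := by
  induction n with
  | zero => exact h
  | succ n ih => exact br_mono ih h'

theorem brN_add (T E : AddSubgroup M) (m n : ℕ) : brN T E (m + n) = brN (brN T E m) E n := by
  induction n with
  | zero => rfl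
  | succ n ih =>
    show br (brN T E (m + n)) E = br _ E
    rw [ih]


theorem brN_le_self {T E : AddSubgroup M} (h : br T E ≤ T) (n : ℕ) : brN T E n ≤ T := by
  induction n with
  | zero => exact le_rfl
  | succ n ih => exact (br_mono ih le_rfl).trans h

theorem br_br_swap {T A B V : AddSubgroup M} (h : br T (br B A) ≤ V) :
    br (br T B) A ≤ br (br T A) B ⊔ V := by
  rw [br_le]
  intro x hx a ha
  have : br T B ≤ leftInv (br (br T A) B ⊔ V) a := br_le.mpr fun t ht b hb => by
    show ⁅⁅t, b⁆, a⁆ ∈ br (br T A) B ⊔ V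
    have e : ⁅⁅t, b⁆, a⁆ = ⁅⁅t, a⁆, b⁆ + ⁅t, ⁅b, a⁆⁆ := by
      rw [leibniz_lie t b a, ← lie_skew ⁅t, a⁆ b]; abel
    rw [e]
    exact add_mem (AddSubgroup.mem_sup_left (mem_br (mem_br ht ha) hb))
      (AddSubgroup.mem_sup_right (h (mem_br ht (mem_br hb ha))))
  exact this hx

/-- Moving a factor to the front modulo `V`. -/
theorem brN_move {T A B V : AddSubgroup M} (hTB : br T B ≤ T) (hTA : br T A ≤ T)
    (hc : br T (br B A) ≤ V) (hVB : br V B ≤ V) (n : ℕ) :
    ∀ X : AddSubgroup M, X ≤ T → br (brN X B n) A ≤ brN (br X A) B n ⊔ V := by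
  induction n with
  | zero => exact fun X _ => le_sup_left
  | succ n ih =>
    intro X hX
    have hY : brN X B n ≤ T := (brN_mono hX le_rfl n).trans (brN_le_self hTB n)
    show br (br (brN X B n) B) A ≤ br (brN (br X A) B n) B ⊔ V
    refine (br_br_swap ((br_mono hY le_rfl).trans hc)).trans (sup_le ?_ le_sup_right)
    refine (br_mono (ih X hX) le_rfl).trans ?_
    rw [br_sup_left]
    exact sup_le_sup le_rfl hVB

/-- Two commuting families, acting nilpotently modulo `V`, act nilpotently together. -/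
theorem brN_sup_le {T A B V : AddSubgroup M} (hTA : br T A ≤ T) (hTB : br T B ≤ T)
    (hVA : br V A ≤ V) (hVB : br V B ≤ V) (hc : br T (br B A) ≤ V) {a b : ℕ}
    (ha : brN T A a ≤ V) (hb : brN T B b ≤ V) : brN T (A ⊔ B) (a + b) ≤ V := by
  have key : ∀ n, brN T (A ⊔ B) n ≤
      (⨆ rs : {rs : ℕ × ℕ // rs.1 + rs.2 = n}, brN (brN T A rs.1.1) B rs.1.2) ⊔ V := by
    intro n
    induction n with
    | zero => exact le_sup_of_le_left (le_iSup_of_le ⟨(0, 0), rfl⟩ le_rfl)
    | succ n ih =>
      refine (br_mono ih le_rfl).trans ?_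
      rw [br_sup_left, br_iSup_left]
      refine sup_le (iSup_le fun rs => ?_) ?_
      · obtain ⟨⟨r, s⟩, h⟩ := rs
        rw [br_sup_right]
        refine sup_le ?_ (le_sup_of_le_left (le_iSup_of_le ⟨(r, s + 1), by simp only at h ⊢; omega⟩ le_rfl))
        refine (brN_move hTB hTA hc hVB s _ (brN_le_self hTA r)).trans (sup_le_sup ?_ le_rfl)
        exact le_iSup_of_le ⟨(r + 1, s), by simp only at h ⊢; omega⟩ le_rfl
      · rw [br_sup_right]
        exact le_sup_of_le_right (sup_le hVA hVB)
  refine (key (a + b)).trans (sup_le (iSup_le fun rs => ?_) le_rfl)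
  obtain ⟨⟨r, s⟩, h⟩ := rs
  simp only at h ⊢
  rcases Nat.lt_or_ge r a with hr | hr
  · obtain ⟨d, rfl⟩ := Nat.exists_eq_add_of_le (show b ≤ s by omega)
    refine (brN_mono (brN_le_self hTA r) le_rfl _).trans ?_
    rw [brN_add]
    exact (brN_mono hb le_rfl _).trans (brN_le_self hVB _)
  · obtain ⟨d, rfl⟩ := Nat.exists_eq_add_of_le hr
    rw [brN_add T A a d]
    exact (brN_mono ((brN_mono ha le_rfl d).trans (brN_le_self hVA d)) le_rfl _).trans (brN_le_self hVB _)

variable {ι : Type*}

/-- Finitely many commuting families acting nilpotently modulo `V` act nilpotently together. -/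
theorem brN_finset_le {T V : AddSubgroup M} (hVT : V ≤ T) (E : ι → AddSubgroup M)
    (hT : ∀ i, br T (E i) ≤ T) (hV : ∀ i, br V (E i) ≤ V)
    (hc : ∀ i j, br T (br (E i) (E j)) ≤ V) {e : ℕ} (he : ∀ i, brN T (E i) e ≤ V) (s : Finset ι) :
    brN T (⨆ i ∈ s, E i) (s.card * e + 1) ≤ V := by
  classical
  induction s using Finset.induction with
  | empty =>
    refine br_le.mpr fun x hx y hy => ?_
    have : y = 0 := by simpa using hy
    rw [this, lie_zero]
    exact zero_mem _
  | @insert i s hi ih =>
    rw [Finset.iSup_insert, Finset.card_insert_of_notMem hi,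
      show (s.card + 1) * e + 1 = e + (s.card * e + 1) by ring]
    refine brN_sup_le (hT i) ?_ (hV i) ?_ ?_ (he i) ih
    · rw [br_iSup_right]
      exact iSup_le fun j => by rw [br_iSup_right]; exact iSup_le fun _ => hT j
    · rw [br_iSup_right]
      exact iSup_le fun j => by rw [br_iSup_right]; exact iSup_le fun _ => hV j
    · rw [br_iSup_left, br_iSup_right]
      exact iSup_le fun j => by rw [br_iSup_left, br_iSup_right]; exact iSup_le fun _ => hc j i

/-- The bound on the nilpotency of the action. -/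
def collectBound (m e : ℕ) : ℕ → ℕ
  | 0 => 1
  | K + 1 => (m * e + 1) * collectBound m e K

variable [Fintype ι]

/-- A subring, filtered by terms each spanned by pieces, acts nilpotently modulo `U`. -/
theorem collect (E : ℕ → ι → AddSubgroup M) (T U : AddSubgroup M) (hUT : U ≤ T)
    (hanti : ∀ w i, E (w + 1) i ≤ E w i)
    (h1 : ∀ w i j, br (E w i) (E 0 j) ≤ ⨆ l, E (w + 1) l)
    (hT : ∀ i, br T (E 0 i) ≤ T) (hU : ∀ i, br U (E 0 i) ≤ U)
    {K : ℕ} (hK : ∀ i, br T (E K i) ≤ U) {e : ℕ} (he : ∀ i, brN T (E 0 i) e ≤ U) :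
    brN T (⨆ i, E 0 i) (collectBound (Fintype.card ι) e K) ≤ U := by
  have h0 : ∀ w i, E w i ≤ E 0 i := by
    intro w i
    induction w with
    | zero => exact le_rfl
    | succ w ih => exact (hanti w i).trans ih
  let R : ℕ → AddSubgroup M := fun w => ⨆ i, E w i
  have hT' : ∀ w, br T (R w) ≤ T := fun w => by
    rw [br_iSup_right]; exact iSup_le fun i => (br_mono le_rfl (h0 w i)).trans (hT i)
  have hU' : ∀ w, br U (R w) ≤ U := fun w => by
    rw [br_iSup_right]; exact iSup_le fun i => (br_mono le_rfl (h0 w i)).trans (hU i)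
  suffices ∀ j w, w + j = K → brN T (R w) (collectBound (Fintype.card ι) e j) ≤ U from
    this K 0 (Nat.zero_add K)
  intro j
  induction j with
  | zero =>
    intro w hw
    obtain rfl : w = K := hw
    show br T (R w) ≤ U
    rw [br_iSup_right]
    exact iSup_le hK
  | succ j ih =>
    intro w hw
    set N := collectBound (Fintype.card ι) e j with hN
    set m := Fintype.card ι * e + 1 with hm
    let Tl : ℕ → AddSubgroup M := fun l => brN T (R (w + 1)) l ⊔ U
    have hJR : br (R (w + 1)) (R w) ≤ R (w + 1) := by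
      rw [br_iSup_left]
      refine iSup_le fun i => ?_
      rw [br_iSup_right]
      refine iSup_le fun i' => (br_mono le_rfl (h0 w i')).trans ((h1 (w + 1) i i').trans ?_)
      exact iSup_mono fun l => hanti (w + 1) l
    have hTl : ∀ l, br (Tl l) (R w) ≤ Tl l := by
      intro l
      induction l with
      | zero =>
        refine br_le.mpr fun x hx y hy => ?_
        have hxT : x ∈ T := by
          have : Tl 0 ≤ T := sup_le le_rfl hUT
          exact this hx
        exact AddSubgroup.mem_sup_left (hT' w (mem_br hxT hy))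
      | succ l ihl =>
        rw [br_sup_left]
        refine sup_le ?_ ((hU' w).trans le_sup_right)
        show br (br (brN T (R (w + 1)) l) (R (w + 1))) (R w) ≤ _
        have hsub : br (brN T (R (w + 1)) l) (br (R (w + 1)) (R w)) ≤ Tl (l + 1) :=
          (br_mono le_rfl hJR).trans le_sup_left
        refine (br_br_swap hsub).trans (sup_le ?_ le_rfl)
        refine (br_mono ((br_mono le_sup_left le_rfl).trans ihl) le_rfl).trans ?_
        rw [br_sup_left]
        exact sup_le_sup le_rfl (hU' (w + 1))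
    have hstep : ∀ l, brN (Tl l) (R w) m ≤ Tl (l + 1) := by
      intro l
      have hle : Tl l ≤ T := sup_le (brN_le_self (hT' (w + 1)) l) hUT
      have hVT : Tl (l + 1) ≤ Tl l := by
        refine sup_le ?_ le_sup_right
        refine (br_mono le_sup_left (iSup_mono fun i => hanti w i)).trans (hTl l)
      have := brN_finset_le hVT (E w) (fun i => (br_mono le_rfl (le_iSup (E w) i)).trans (hTl l))
        (fun i => (br_mono le_rfl (le_iSup (E w) i)).trans (hTl (l + 1)))
        (fun i i' => by
          refine (br_mono le_rfl ((br_mono le_rfl (h0 w i')).trans (h1 w i i'))).trans ?_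
          rw [br_sup_left]
          exact sup_le le_sup_left ((hU' (w + 1)).trans le_sup_right))
        (fun i => (brN_mono hle (h0 w i) e).trans ((he i).trans le_sup_right)) Finset.univ
      simpa [hm, R] using this
    have hall : ∀ l, brN T (R w) (m * l) ≤ Tl l := by
      intro l
      induction l with
      | zero => exact le_sup_left
      | succ l ihl =>
        rw [Nat.mul_succ, brN_add]
        exact (brN_mono ihl le_rfl m).trans (hstep l)
    exact (hall N).trans (sup_le (ih (w + 1) (by omega)) le_rfl)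

end Cfsg.Agent.CoprimeClass
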