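import Cfsg.Agent.CoprimeClass.Span

/-!
Bounding the class of a nilpotent group generated by a closed family of subgroups, each acting as a
bounded Engel subgroup, from the class of the fixed points of one automorphism of prime order.
-/

set_option autoImplicit false
set_option linter.unusedSectionVars false

open Subgroup TensorProduct
open scoped commutatorElement

namespace Cfsg.Agent.CoprimeClass

open HigmanFPF (GrLie io Ext Cyc eig extMap grMap dser lser fbr root')

/-- Iterated commutator of subgroups. -/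
def iterC {G : Type*} [Group G] (X D : Subgroup G) : ℕ → Subgroup G
  | 0 => X
  | n + 1 => ⁅iterC X D n, D⁆

theorem iterC_mono {G : Type*} [Group G] {X X' D D' : Subgroup G} (h : X ≤ X') (h' : D ≤ D') :
    ∀ n, iterC X D n ≤ iterC X' D' n
  | 0 => h
  | n + 1 => commutator_mono (iterC_mono h h' n) h'

variable {Γ : Type*} [Group Γ] {ι : Type*}

/-- A closed family of subgroups generating `P`. -/
structure Fam (A P : Subgroup Γ) (D : ι → Subgroup Γ) (e : ℕ) : Prop where
  le : ∀ i, D i ≤ P
  norm : ∀ i, A ≤ normalizer (D i : Set Γ)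
  normP : A ≤ normalizer (P : Set Γ)
  cop : (Nat.card A).Coprime (Nat.card P)
  gen : P = ⨆ i, D i
  close : ∀ i j, ∀ B ∈ Coprime.Cocyclic A, ∃ l, ⁅D i, D j⁆ ⊓ centralizer (B : Set Γ) ≤ D l
  engel : ∀ i j, iterC (D j) (D i) e = ⊥

/-- The bound for the class, by the derived length of the Lie ring. -/
def classStep (m e : ℕ) : ℕ → ℕ
  | 0 => 0
  | s + 1 => classStep m e s + collectBound m e (classStep m e s)

/-- The bound for the class. -/
def coreBound (p e m K : ℕ) : ℕ :=
  classStep m e (krekninBound (collectBound m e K) (p - 1) + K)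

section

variable [Finite Γ] {A P : Subgroup Γ} [IsMulCommutative A] {D : ι → Subgroup Γ} {e : ℕ}
  {p : ℕ} [hp : Fact p.Prime]

theorem Fam.S_comm_le (F : Fam A P D e) (i j : ι) (w : ℕ) :
    S P p ⁅D i, D j⁆ w ≤ ⨆ l, S P p (D l) w :=
  S_le_iSup w F.normP (le_normalizer_commutator_of (F.norm i) (F.norm j)) F.cop (F.close i j)

theorem Fam.top_le (F : Fam A P D e) : (⊤ : AddSubgroup (Ext P p)) ≤ ⨆ l, S P p (D l) 0 := by
  have hall : ∀ n, ∀ c : Cyc p, ∀ x ∈ P.lowerCentralSeries n,
      c ⊗ₜ[ℤ] gx P n x ∈ ⨆ l, S P p (D l) n := by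
    intro n
    induction n with
    | zero =>
      intro c x hx
      have : P ≤ tgt P 0 c (⨆ l, S P p (D l) 0) := by
        conv_lhs => rw [F.gen]
        exact iSup_le fun l z hz => ⟨(F.le l hz : z ∈ P.lowerCentralSeries 0),
          AddSubgroup.mem_iSup_of_mem l (S_mem c le_rfl (F.le l hz : z ∈ P.lowerCentralSeries 0) hz)⟩
      exact (this hx).2
    | succ n ih =>
      intro c x hx
      have : P.lowerCentralSeries (n + 1) ≤ tgt P (n + 1) c (⨆ l, S P p (D l) (n + 1)) := by
        rw [Subgroup.lowerCentralSeries_succ, commutator_le]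
        intro u hu v hv
        have hv0 : v ∈ P.lowerCentralSeries 0 := hv
        refine ⟨commutator_mem_commutator hu hv, ?_⟩
        have e1 : ⁅c ⊗ₜ[ℤ] gx P n u, (1 : Cyc p) ⊗ₜ[ℤ] gx P 0 v⁆ = c ⊗ₜ[ℤ] gx P (n + 1) ⁅u, v⁆ := by
          rw [LieAlgebra.ExtendScalars.bracket_tmul, mul_one, lie_gx hu hv0]
        rw [← e1]
        have hv' : (1 : Cyc p) ⊗ₜ[ℤ] gx P 0 v ∈ ⨆ l, S P p (D l) 0 := by
          have : P ≤ tgt P 0 1 (⨆ l, S P p (D l) 0) := by
            conv_lhs => rw [F.gen]
            exact iSup_le fun l z hz => ⟨(F.le l hz : z ∈ P.lowerCentralSeries 0),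
              AddSubgroup.mem_iSup_of_mem l (S_mem 1 le_rfl (F.le l hz : z ∈ P.lowerCentralSeries 0) hz)⟩
          exact (this hv0).2
        have hle : br (⨆ l, S P p (D l) n) (⨆ l, S P p (D l) 0) ≤ ⨆ l, S P p (D l) (n + 1) := by
          rw [br_iSup_left]
          refine iSup_le fun i => ?_
          rw [br_iSup_right]
          exact iSup_le fun j => (br_S n 0).trans (F.S_comm_le i j (n + 1))
        exact hle (mem_br (ih c u hu) hv')
      exact (this hx).2
  intro z _
  refine mem_of_tmul_gx (fun n c x hx => ?_) z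
  have hle : (⨆ l, S P p (D l) n) ≤ ⨆ l, S P p (D l) 0 := iSup_mono fun l => S_mono le_rfl (Nat.zero_le n)
  exact hle (hall n c x hx)

theorem Fam.engel_S (F : Fam A P D e) (i : ι) (Z : AddSubgroup (Ext P p)) :
    brN Z (S P p (D i) 0) e = ⊥ := by
  refine le_bot_iff.mp ((brN_mono (le_top.trans F.top_le) le_rfl e).trans ?_)
  have key : ∀ n, brN (⨆ j, S P p (D j) 0) (S P p (D i) 0) n ≤
      ⨆ j, S P p (iterC (D j) (D i) n) 0 := by
    intro n
    induction n with
    | zero => exact le_rfl
    | succ n ih =>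
      refine (br_mono ih le_rfl).trans ?_
      rw [br_iSup_left]
      exact iSup_mono fun j => (br_S 0 0).trans (S_mono le_rfl (Nat.zero_le _))
  refine (key e).trans (iSup_le fun j => ?_)
  rw [F.engel i j, S_bot]

/-- The fixed points of an element of prime order control the class. -/
theorem Fam.class_le [Fintype ι] (F : Fam A P D e) (hnil : Group.IsNilpotent P) {a : Γ} (ha : a ∈ A)
    (hap : a ^ p = 1) (hcopP : (Nat.card P).Coprime p) {K : ℕ}
    (hK : (P ⊓ centralizer {a}).lowerCentralSeries K = ⊥) :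
    P.lowerCentralSeries (coreBound p e (Fintype.card ι) K) = ⊥ := by
  classical
  set H : Subgroup Γ := P ⊓ centralizer {a} with hH
  set α : MulAut P := P.normalizerMonoidHom ⟨a, F.normP ha⟩ with hα
  have hαv : ∀ g : P, (α g : Γ) = a * g * a⁻¹ := fun g => rfl
  have hαp : α ^ p = 1 := by
    rw [hα, ← map_pow, show (⟨a, F.normP ha⟩ : normalizer (P : Set Γ)) ^ p = 1 from Subtype.ext hap,
      map_one]
  have hgr : ∀ n, ∀ x ∈ P.lowerCentralSeries n, grMap α (gx P n x) = gx P n (a * x * a⁻¹) := by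
    intro n x hx
    have hxP := lcs_le n hx
    rw [gx_of_mem hxP, HigmanFPF.grMap_io α (mem_lcs_iff.mpr hx),
      gx_of_mem ((mem_normalizer_iff.mp (F.normP ha) x).mp hxP)]
    rfl
  let W : ZMod p → AddSubgroup (Ext P p) := fun b => eig α p b
  have hW : IsGraded W := by
    intro i j x y hx hy
    rw [HigmanFPF.mem_eig] at hx hy ⊢
    rw [HigmanFPF.extMap_lie, hx, hy, HigmanFPF.xsmul_lie, HigmanFPF.xlie_smul, smul_smul,
      ← HigmanFPF.root'_add]
  -- the filtration of the fixed points
  let E : ℕ → ι → AddSubgroup (Ext P p) := fun w i => S P p (D i ⊓ H.lowerCentralSeries w) 0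
  have hAH : A ≤ normalizer (H : Set Γ) := by
    refine le_trans (le_inf F.normP (fun b hb => ?_)) inf_normalizer_le_normalizer_inf
    have hab : a * b = b * a :=
      congrArg Subtype.val (IsMulCommutative.is_comm.comm (⟨a, ha⟩ : A) ⟨b, hb⟩)
    exact le_normalizer (mem_centralizer_iff.mpr fun y hy => by
      rw [Set.mem_singleton_iff.mp hy]; exact hab)
  have h1 : ∀ w i j, br (E w i) (E 0 j) ≤ ⨆ l, E (w + 1) l := by
    intro w i j
    refine (br_S 0 0).trans ((S_mono le_rfl (Nat.zero_le _)).trans (S_le_iSup 0 F.normP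
      (le_normalizer_commutator_of
        (le_trans (le_inf (F.norm i) (le_normalizer_lcs hAH w)) inf_normalizer_le_normalizer_inf)
        (le_trans (le_inf (F.norm j) (le_normalizer_lcs hAH 0)) inf_normalizer_le_normalizer_inf))
      F.cop fun B hB => ?_))
    obtain ⟨l, hl⟩ := F.close i j B hB
    refine ⟨l, le_inf (le_trans (inf_le_inf_right _ (commutator_mono inf_le_left inf_le_left)) hl) ?_⟩
    refine inf_le_left.trans ?_
    rw [Subgroup.lowerCentralSeries_succ]
    exact commutator_mono inf_le_right inf_le_right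
  have hanti : ∀ w i, E (w + 1) i ≤ E w i := fun w i =>
    S_mono (inf_le_inf_left _ (H.lowerCentralSeries_antitone (Nat.le_succ w))) le_rfl
  have hR0 : W 0 ≤ ⨆ i, E 0 i := by
    intro x hx
    have hfix : extMap α p x = x := by
      have := (HigmanFPF.mem_eig α).mp hx
      rwa [HigmanFPF.root'_zero, one_smul] at this
    let τ : Ext P p →+ Ext P p :=
      { toFun := fun z => ∑ k : ZMod p, (extMap α p)^[k.val] z
        map_zero' := by simp [iterate_map_zero]
        map_add' := fun u v => by simp only [iterate_map_add, Finset.sum_add_distrib] }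
    have hτ : ∀ l, S P p (D l) 0 ≤ (⨆ i, E 0 i).comap τ := by
      intro l
      rw [S, AddSubgroup.closure_le]
      rintro _ ⟨c, n, z, -, hz, hzD, rfl⟩
      rw [SetLike.mem_coe, AddSubgroup.mem_comap]
      show ∑ k : ZMod p, (extMap α p)^[k.val] (c ⊗ₜ[ℤ] gx P n z) ∈ ⨆ i, E 0 i
      simp only [HigmanFPF.extMap_iterate_tmul, ← TensorProduct.tmul_sum]
      set N : Subgroup Γ := P.lowerCentralSeries (n + 1) ⊓ D l with hN
      have haN : ∀ {j : ℕ} {u : Γ}, u ∈ P.lowerCentralSeries j ⊓ D l →
          a * u * a⁻¹ ∈ P.lowerCentralSeries j ⊓ D l := fun {j u} hu =>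
        ⟨(mem_normalizer_iff.mp (le_normalizer_lcs F.normP j ha) u).mp hu.1,
          (mem_normalizer_iff.mp (F.norm l ha) u).mp hu.2⟩
      have hit : ∀ j : ℕ, ∃ y ∈ P.lowerCentralSeries n ⊓ D l, (grMap α)^[j] (gx P n z) = gx P n y := by
        intro j
        induction j with
        | zero => exact ⟨z, ⟨hz, hzD⟩, rfl⟩
        | succ j ih =>
          obtain ⟨y, hy, he⟩ := ih
          exact ⟨_, haN hy, by rw [Function.iterate_succ_apply', he, hgr n y hy.1]⟩
      obtain ⟨y, hy, he⟩ : ∃ y ∈ P.lowerCentralSeries n ⊓ D l,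
          ∑ k : ZMod p, (grMap α)^[k.val] (gx P n z) = gx P n y := by
        have : ∀ s : Finset (ZMod p), ∃ y ∈ P.lowerCentralSeries n ⊓ D l,
            ∑ k ∈ s, (grMap α)^[k.val] (gx P n z) = gx P n y := by
          intro s
          induction s using Finset.induction with
          | empty => exact ⟨1, one_mem _, by rw [Finset.sum_empty, gx_one]⟩
          | @insert k s hk ih =>
            obtain ⟨y, hy, he⟩ := ih
            obtain ⟨u, hu, hue⟩ := hit k.val
            exact ⟨u * y, mul_mem hu hy, by rw [Finset.sum_insert hk, he, hue, gx_mul hu.1 hy.1]⟩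
        exact this Finset.univ
      rw [he]
      have hfy : grMap α (gx P n y) = gx P n y := by
        rw [← he, map_sum]
        exact Fintype.sum_equiv (Equiv.addRight (1 : ZMod p)) _ _ fun k =>
          HigmanFPF.iterate_val_succ _ (HigmanFPF.grMap_iterate_p α hαp) k _
      have hstep : y⁻¹ * (a * y * a⁻¹) ∈ N := by
        refine ⟨?_, (D l).mul_mem ((D l).inv_mem hy.2) (haN hy).2⟩
        have hm : y⁻¹ * (a * y * a⁻¹) ∈ P.lowerCentralSeries n := (P.lowerCentralSeries n).mul_mem ((P.lowerCentralSeries n).inv_mem hy.1) (haN hy).1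
        have h0 : gx P n (y⁻¹ * (a * y * a⁻¹)) = 0 := by
          rw [gx_mul ((P.lowerCentralSeries n).inv_mem hy.1) (haN hy).1, gx_inv hy.1, ← hgr n y hy.1, hfy, neg_add_cancel]
        rw [gx_of_mem (lcs_le n hm)] at h0
        exact mem_lcs_iff.mp (HigmanFPF.mem_of_io_eq_zero (mem_lcs_iff.mpr hm) h0)
      have hpow : ∀ j : ℕ, y⁻¹ * (a ^ j * y * (a ^ j)⁻¹) ∈ N := by
        intro j
        induction j with
        | zero => simp
        | succ j ih =>
          have := mul_mem hstep (haN ih)
          rw [show y⁻¹ * (a ^ (j + 1) * y * (a ^ (j + 1))⁻¹) =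
            y⁻¹ * (a * y * a⁻¹) * (a * (y⁻¹ * (a ^ j * y * (a ^ j)⁻¹)) * a⁻¹) by rw [pow_succ']; group]
          exact this
      obtain ⟨u, hu, huc⟩ := Coprime.exists_fixed_mem_leftCoset (A := zpowers a) (N := N)
        (zpowers_le.mpr (inf_normalizer_le_normalizer_inf
          ⟨le_normalizer_lcs F.normP (n + 1) ha, F.norm l ha⟩))
        ((F.cop.coprime_dvd_left (card_dvd_of_le (zpowers_le.mpr ha))).coprime_dvd_right
          (card_dvd_of_le (inf_le_left.trans (lcs_le (n + 1)))))
        (Or.inl (Group.isSolvable_of_comm fun x y => IsMulCommutative.is_comm.comm x y))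
        (k := y) (by
          intro b hb
          obtain ⟨j, rfl⟩ := mem_zpowers_iff.mp hb
          obtain ⟨j', hj'⟩ : ∃ j' : ℕ, a ^ j = a ^ j' := by
            have := mem_powers_iff_mem_zpowers.mpr hb
            obtain ⟨j', hj'⟩ := this
            exact ⟨j', hj'.symm⟩
          rw [hj']
          exact hpow j')
      have hun : u ∈ P.lowerCentralSeries n := P.lowerCentralSeries_antitone (Nat.le_succ n) hu.1
      have hyu : gx P n (y * u) = gx P n y := by rw [gx_mul hy.1 hun, gx_eq_zero hu.1, add_zero]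
      rw [← hyu]
      refine AddSubgroup.mem_iSup_of_mem l (S_mem c (Nat.zero_le n) (mul_mem hy.1 hun) ⟨mul_mem hy.2 hu.2,
        ⟨P.mul_mem (lcs_le n hy.1) (lcs_le n hun), mem_centralizer_iff.mpr fun b hb => ?_⟩⟩)
      rw [Set.mem_singleton_iff.mp hb]
      exact mem_centralizer_iff.mp huc a (mem_zpowers a)
    have hpx : p • x ∈ ⨆ i, E 0 i := by
      have h2 : τ x ∈ ⨆ i, E 0 i := by
        have : (⊤ : AddSubgroup (Ext P p)) ≤ (⨆ i, E 0 i).comap τ := F.top_le.trans (iSup_le hτ)
        exact this (AddSubgroup.mem_top x)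
      have : τ x = p • x := by
        show ∑ k : ZMod p, (extMap α p)^[k.val] x = p • x
        simp only [Function.iterate_fixed hfix, Finset.sum_const, Finset.card_univ, ZMod.card]
      rwa [this] at h2
    obtain ⟨y, hy⟩ := HigmanFPF.divide hcopP x
    have hN : Nat.card P • x = 0 := by
      rw [← hy]
      have : ∀ z : Ext P p, Nat.card P • z = 0 := by
        intro z
        induction z using TensorProduct.induction_on with
        | zero => simp
        | tmul c u =>
          rw [TensorProduct.smul_tmul', TensorProduct.smul_tmul, HigmanFPF.card_nsmul_eq_zero,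
            TensorProduct.tmul_zero]
        | add x y hx hy => rw [smul_add, hx, hy, add_zero]
      exact this _
    have hg := Nat.gcd_eq_gcd_ab p (Nat.card P)
    rw [hcopP.symm] at hg
    have hx1 : ((1 : ℕ) : ℤ) • x = x := by simp
    rw [← hx1, hg, add_smul, mul_comm (p : ℤ), mul_comm (Nat.card P : ℤ), mul_smul, mul_smul,
      natCast_zsmul, natCast_zsmul, hN, smul_zero, add_zero]
    exact zsmul_mem hpx _
  -- the fixed component acts nilpotently
  set m := Fintype.card ι with hm
  have hEK : ∀ i, br (⊤ : AddSubgroup (Ext P p)) (E K i) ≤ ⊥ := by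
    intro i
    show br _ (S P p (D i ⊓ H.lowerCentralSeries K) 0) ≤ ⊥
    rw [hK, inf_bot_eq, S_bot]
    refine br_le.mpr fun u _ v hv => ?_
    rw [AddSubgroup.mem_bot] at hv ⊢
    rw [hv, HigmanFPF.xlie_zero]
  have hact : brN (⊤ : AddSubgroup (Ext P p)) (⨆ i, E 0 i) (collectBound m e K) ≤ ⊥ := by
    refine collect E ⊤ ⊥ bot_le hanti h1 (fun i => le_top) (fun i => ?_) hEK (fun i => ?_)
    · refine br_le.mpr fun u hu v _ => ?_
      rw [AddSubgroup.mem_bot] at hu ⊢
      rw [hu, HigmanFPF.xzero_lie]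
    · exact (brN_mono le_rfl (S_mono inf_le_left le_rfl) e).trans (F.engel_S i ⊤).le
  -- solvability
  set n₁ := krekninBound (collectBound m e K) (p - 1) with hn₁
  have hzero : ∀ b, b ≠ 0 → dser W n₁ b = ⊥ := fun b hb =>
    dser_eq_bot (collectBound m e K) W hW
      (fun c _ => le_bot_iff.mp ((brN_mono le_top hR0 _).trans hact)) b hb
  have htail : ∀ j, (∀ b, b ≠ 0 → dser W (n₁ + j) b = ⊥) ∧ dser W (n₁ + j) 0 ≤ ⨆ i, E j i := by
    intro j
    induction j with
    | zero => exact ⟨hzero, (dser_le hW n₁ 0).trans hR0⟩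
    | succ j ih =>
      refine ⟨fun b hb => le_bot_iff.mp ((dser_antitone hW (Nat.le_add_right n₁ (j + 1)) b).trans
        (hzero b hb).le), ?_⟩
      show fbr (dser W (n₁ + j)) (dser W (n₁ + j)) 0 ≤ _
      rw [fbr, AddSubgroup.closure_le]
      rintro _ ⟨i, i', x, y, hii, hx, hy, rfl⟩
      by_cases hi : i = 0
      · subst hi
        rw [zero_add] at hii
        subst hii
        have hy0 := ((dser_le hW _ 0).trans hR0) hy
        have : br (⨆ l, E j l) (⨆ l, E 0 l) ≤ ⨆ l, E (j + 1) l := by
          rw [br_iSup_left]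
          refine iSup_le fun l => ?_
          rw [br_iSup_right]
          exact iSup_le fun l' => h1 j l l'
        exact this (mem_br (ih.2 hx) hy0)
      · rw [ih.1 i hi, AddSubgroup.mem_bot] at hx
        rw [hx, HigmanFPF.xzero_lie]
        exact zero_mem _
  set s₀ := n₁ + K with hs₀
  have hsolv : ∀ b, dser W s₀ b = ⊥ := by
    intro b
    by_cases hb : b = 0
    · subst hb
      refine le_bot_iff.mp ((htail K).2.trans (iSup_le fun i => ?_))
      show S P p (D i ⊓ H.lowerCentralSeries K) 0 ≤ ⊥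
      rw [hK, inf_bot_eq, S_bot]
    · exact (htail K).1 b hb
  -- nilpotency
  let Δ : ℕ → AddSubgroup (Ext P p) := fun s => ⨆ b, dser W s b
  let Λ : ℕ → AddSubgroup (Ext P p) := fun n => ⨆ b, lser W n b
  have htop : (⊤ : AddSubgroup (Ext P p)) ≤ ⨆ b, W b := by
    intro x _
    obtain ⟨y, hy⟩ := HigmanFPF.divide hcopP x
    rw [← hy, ← HigmanFPF.sum_proj α y]
    exact AddSubgroup.sum_mem _ fun b _ => AddSubgroup.mem_iSup_of_mem b (HigmanFPF.proj_mem α hαp b y)
  have hideal : ∀ s i j, ∀ x ∈ dser W s i, ∀ y ∈ W j, ⁅x, y⁆ ∈ dser W s (i + j) := by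
    intro s
    induction s with
    | zero => exact fun i j x hx y hy => hW hx hy
    | succ s ih =>
      intro i j x hx y hy
      have key : fbr (dser W s) (dser W s) i ≤ leftInv (fbr (dser W s) (dser W s) (i + j)) y := by
        rw [fbr, AddSubgroup.closure_le]
        rintro _ ⟨i₁, i₂, u, v, rfl, hu, hv, rfl⟩
        show ⁅⁅u, v⁆, y⁆ ∈ fbr (dser W s) (dser W s) (i₁ + i₂ + j)
        have e1 : ⁅⁅u, v⁆, y⁆ = ⁅⁅u, y⁆, v⁆ + ⁅u, ⁅v, y⁆⁆ := by
          rw [leibniz_lie u v y, ← lie_skew ⁅u, y⁆ v]; abel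
        rw [e1]
        refine add_mem ?_ ?_
        · rw [show i₁ + i₂ + j = i₁ + j + i₂ by ring]
          exact HigmanFPF.mem_fbr (ih _ _ u hu y hy) hv
        · rw [add_assoc]
          exact HigmanFPF.mem_fbr hu (ih _ _ v hv y hy)
      exact key hx
  have hΔideal : ∀ s, br (Δ s) ⊤ ≤ Δ s := by
    intro s
    refine (br_mono le_rfl htop).trans ?_
    rw [br_iSup_left]
    refine iSup_le fun i => ?_
    rw [br_iSup_right]
    exact iSup_le fun j => br_le.mpr fun x hx y hy => AddSubgroup.mem_iSup_of_mem (i + j) (hideal s i j x hx y hy)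
  have hΔsucc : ∀ s, br (Δ s) (Δ s) ≤ Δ (s + 1) := by
    intro s
    rw [br_iSup_left]
    refine iSup_le fun i => ?_
    rw [br_iSup_right]
    exact iSup_le fun j => br_le.mpr fun x hx y hy => AddSubgroup.mem_iSup_of_mem (i + j) (HigmanFPF.mem_fbr hx hy)
  have hΛ0 : ∀ z, z ∈ Λ 0 := fun z => htop (AddSubgroup.mem_top z)
  have hΛsucc : ∀ n, br (Λ n) ⊤ ≤ Λ (n + 1) := by
    intro n
    refine (br_mono le_rfl htop).trans ?_
    rw [br_iSup_left]
    refine iSup_le fun i => ?_
    rw [br_iSup_right]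
    exact iSup_le fun j => br_le.mpr fun x hx y hy => AddSubgroup.mem_iSup_of_mem (i + j) (HigmanFPF.mem_fbr hx hy)
  have hΛle : ∀ n, Λ (n + 1) ≤ br (Λ n) ⊤ := by
    intro n
    refine iSup_le fun b => ?_
    show fbr (lser W n) W b ≤ _
    rw [fbr, AddSubgroup.closure_le]
    rintro _ ⟨i, j, x, y, -, hx, -, rfl⟩
    exact mem_br (AddSubgroup.mem_iSup_of_mem i hx) (AddSubgroup.mem_top y)
  have hΛanti : ∀ n d, Λ (n + d) ≤ Λ n := by
    intro n
    have : ∀ b, fbr (lser W n) W b ≤ Λ n := by
      induction n with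
      | zero => exact fun b => (fbr_le hW (fun _ => le_rfl) (fun _ => le_rfl) b).trans (le_iSup W b)
      | succ n ih =>
        intro b
        rw [fbr, AddSubgroup.closure_le]
        rintro _ ⟨i, j, x, y, -, hx, -, rfl⟩
        exact hΛsucc n (mem_br (ih i hx) (AddSubgroup.mem_top y))
    intro d
    induction d with
    | zero => exact le_rfl
    | succ d ih =>
      refine (hΛle (n + d)).trans ((br_mono ih le_rfl).trans ?_)
      exact (hΛsucc n).trans (iSup_le this)
  have hSΛ : ∀ i n, S P p (D i) n ≤ Λ n := by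
    intro i n
    rw [S, AddSubgroup.closure_le]
    rintro _ ⟨c, n', x, hn', hx, -, rfl⟩
    obtain ⟨d, rfl⟩ := Nat.exists_eq_add_of_le hn'
    exact hΛanti n d (tmul_gx_mem Λ hΛ0 hΛsucc (n + d) c x hx)
  have hmain : ∀ s, Λ (classStep m e s) ≤ Δ s := by
    intro s
    induction s with
    | zero => exact le_rfl
    | succ s ih =>
      set K₁ := classStep m e s with hK₁
      have hc : brN (Δ s) (⨆ i, S P p (D i) 0) (collectBound m e K₁) ≤ Δ (s + 1) := by
        refine collect (fun w i => S P p (D i) w) (Δ s) (Δ (s + 1))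
          (iSup_mono fun b => dser_antitone hW (Nat.le_succ s) b)
          (fun w i => S_mono le_rfl (Nat.le_succ w))
          (fun w i j => (br_S w 0).trans ((F.S_comm_le i j _).trans (iSup_mono fun l => S_mono le_rfl (by omega))))
          (fun i => (br_mono le_rfl le_top).trans (hΔideal s))
          (fun i => (br_mono le_rfl le_top).trans (hΔideal (s + 1)))
          (fun i => (br_mono le_rfl ((hSΛ i K₁).trans ih)).trans (hΔsucc s))
          (fun i => ?_)
        rw [F.engel_S i (Δ s)]
        exact bot_le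
      have hb : ∀ N, Λ (K₁ + N) ≤ brN (Δ s) (⨆ i, S P p (D i) 0) N := by
        intro N
        induction N with
        | zero => exact ih
        | succ N ihN => exact (hΛle (K₁ + N)).trans (br_mono ihN F.top_le)
      exact (hb _).trans hc
  have hfin : ∀ b, lser W (classStep m e s₀) b = ⊥ := by
    intro b
    refine le_bot_iff.mp ((le_iSup (fun b => lser W (classStep m e s₀) b) b).trans ((hmain s₀).trans ?_))
    exact iSup_le fun b => (hsolv b).le
  have hres := HigmanFPF.lcs_eq_bot_of_lser hnil hαp hcopP hfin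
  rw [← Subgroup.top_subtype_lowerCentralSeries P, show coreBound p e (Fintype.card ι) K = classStep m e s₀ from rfl,
    show (⊤ : Subgroup P).lowerCentralSeries (classStep m e s₀) = HigmanFPF.lcs P (classStep m e s₀) from rfl,
    hres, Subgroup.map_bot]

end

end Cfsg.Agent.CoprimeClass
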