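import Cfsg.Agent.CoprimeClass.Core

/-!
A closed generating family restricts to fixed-point subgroups.
-/

set_option autoImplicit false

open Subgroup
open scoped commutatorElement

namespace Cfsg.Agent.CoprimeClass

variable {Γ : Type*} [Group Γ] [Finite Γ] {ι : Type*} {A P : Subgroup Γ} [IsMulCommutative A]
  {D : ι → Subgroup Γ} {e : ℕ}

theorem Fam.lcs_le_iSup (F : Fam A P D e) :
    ∀ n, P.lowerCentralSeries n ≤ ⨆ i, D i ⊓ P.lowerCentralSeries n := by
  intro n
  induction n with
  | zero =>
    show P ≤ _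
    conv_lhs => rw [F.gen]
    exact iSup_mono fun i => le_inf le_rfl (F.le i)
  | succ n ih =>
    have key : ∀ {q : ℕ} (i j : ι), n ≤ q → ⁅D i ⊓ P.lowerCentralSeries q, D j⁆ ≤
        ⨆ l, D l ⊓ P.lowerCentralSeries (n + 1) := by
      intro q i j hq
      refine le_of_cocyclic (le_normalizer_commutator_of
        (le_trans (le_inf (F.norm i) (le_normalizer_lcs F.normP q)) inf_normalizer_le_normalizer_inf)
        (F.norm j)) (F.cop.coprime_dvd_right (card_dvd_of_le
          ((commutator_mono (inf_le_left.trans (F.le i)) (F.le j)).trans (commutator_le_self P))))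
        fun B hB => ?_
      obtain ⟨l, hl⟩ := F.close i j B hB
      refine le_trans ?_ (le_iSup _ l)
      refine le_inf ((inf_le_inf_right _ (commutator_mono inf_le_left le_rfl)).trans hl) ?_
      refine inf_le_left.trans ((commutator_mono inf_le_right (F.le j)).trans ?_)
      rw [← Subgroup.lowerCentralSeries_succ]
      exact P.lowerCentralSeries_antitone (by omega)
    have hN : ∀ j, D j ≤ normalizer ((⨆ l, D l ⊓ P.lowerCentralSeries (n + 1) : Subgroup Γ) : Set Γ) :=
      fun j => le_normalizer_iSup_of_comm fun i => key i j (Nat.le_succ n)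
    have hP : P ≤ normalizer ((⨆ l, D l ⊓ P.lowerCentralSeries (n + 1) : Subgroup Γ) : Set Γ) := by
      conv_lhs => rw [F.gen]
      exact iSup_le hN
    rw [Subgroup.lowerCentralSeries_succ]
    refine (commutator_mono ih F.gen.le).trans ?_
    exact commutator_iSup_le (fun i => (inf_le_left.trans (F.le i)).trans hP) hN fun i j => key i j le_rfl

/-- The fixed points of a subgroup of `A` are generated by those in the members of the family. -/
theorem Fam.gen_centralizer {p : ℕ} [Fact p.Prime] (F : Fam A P D e) (hnil : Group.IsNilpotent P)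
    {W : Subgroup Γ} (hW : W ≤ A) :
    P ⊓ centralizer (W : Set Γ) = ⨆ i, D i ⊓ centralizer (W : Set Γ) := by
  classical
  haveI := Fintype.ofFinite W
  set C := centralizer (W : Set Γ) with hC
  refine le_antisymm ?_ (iSup_le fun i => inf_le_inf_right _ (F.le i))
  have hcard : (Nat.card W).Coprime (Nat.card P) := F.cop.coprime_dvd_left (card_dvd_of_le hW)
  have hsolvW : Group.IsSolvable W := Group.isSolvable_of_comm fun x y => Subtype.ext
    (congrArg (fun z : A => (z : Γ)) (IsMulCommutative.is_comm.comm (⟨(x : Γ), hW x.2⟩ : A) ⟨(y : Γ), hW y.2⟩))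
  -- one layer
  have layer : ∀ n, ∀ g ∈ P.lowerCentralSeries n ⊓ C,
      ∃ r ∈ (⨆ i, D i ⊓ C), r⁻¹ * g ∈ P.lowerCentralSeries (n + 1) ⊓ C := by
    intro n g hg
    set K := P.lowerCentralSeries n with hKdef
    have hconj : ∀ (w : W) {z : Γ}, z ∈ K → (w : Γ) * z * (w : Γ)⁻¹ ∈ K := fun w {z} hz =>
      (mem_normalizer_iff.mp (le_normalizer_lcs F.normP n (hW w.2)) z).mp hz
    set R : Subgroup Γ := ⨆ i, D i ⊓ K ⊓ C with hR
    have hRK : R ≤ K := iSup_le fun i => inf_le_left.trans inf_le_right
    let I : AddSubgroup (HigmanFPF.GrLie P) :=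
      { carrier := {u | ∃ r ∈ R, gx P n r = u}
        zero_mem' := ⟨1, one_mem _, gx_one n⟩
        add_mem' := by
          rintro _ _ ⟨r, hr, rfl⟩ ⟨s, hs, rfl⟩
          exact ⟨r * s, mul_mem hr hs, gx_mul (hRK hr) (hRK hs)⟩
        neg_mem' := by
          rintro _ ⟨r, hr, rfl⟩
          exact ⟨r⁻¹, inv_mem hr, gx_inv (hRK hr)⟩ }
    let τ : Γ → HigmanFPF.GrLie P := fun z => ∑ w : W, gx P n ((w : Γ) * z * (w : Γ)⁻¹)
    let T : Subgroup Γ :=
      { carrier := {z | z ∈ K ∧ τ z ∈ I}
        one_mem' := ⟨one_mem _, by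
          have : τ 1 = 0 := Finset.sum_eq_zero fun w _ => by rw [mul_one, mul_inv_cancel, gx_one]
          rw [this]; exact zero_mem _⟩
        mul_mem' := fun {u v} hu hv => ⟨mul_mem hu.1 hv.1, by
          have : τ (u * v) = τ u + τ v := by
            simp only [τ, ← Finset.sum_add_distrib]
            refine Finset.sum_congr rfl fun w _ => ?_
            rw [← gx_mul (hconj w hu.1) (hconj w hv.1)]
            exact congrArg _ (by group)
          rw [this]; exact add_mem hu.2 hv.2⟩
        inv_mem' := fun {u} hu => ⟨inv_mem hu.1, by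
          have : τ u⁻¹ = - τ u := by
            simp only [τ, ← Finset.sum_neg_distrib]
            refine Finset.sum_congr rfl fun w _ => ?_
            rw [← gx_inv (hconj w hu.1)]
            exact congrArg _ (by group)
          rw [this]; exact neg_mem hu.2⟩ }
    have hKT : K ≤ T := by
      refine (F.lcs_le_iSup n).trans (iSup_le fun i z hz => ?_)
      refine ⟨hz.2, ?_⟩
      obtain ⟨y, hy, he⟩ : ∃ y ∈ D i ⊓ K, τ z = gx P n y := by
        have : ∀ s : Finset W, ∃ y ∈ D i ⊓ K, ∑ w ∈ s, gx P n ((w : Γ) * z * (w : Γ)⁻¹) = gx P n y := by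
          intro s
          induction s using Finset.induction with
          | empty => exact ⟨1, one_mem _, by rw [Finset.sum_empty, gx_one]⟩
          | @insert w s hw ih =>
            obtain ⟨y, hy, he⟩ := ih
            have hu : (w : Γ) * z * (w : Γ)⁻¹ ∈ D i ⊓ K :=
              ⟨(mem_normalizer_iff.mp (F.norm i (hW w.2)) z).mp hz.1, hconj w hz.2⟩
            exact ⟨_, mul_mem hu hy, by rw [Finset.sum_insert hw, he, gx_mul hu.2 hy.2]⟩
        exact this Finset.univ
      have hfixed : ∀ b ∈ W, gx P n (b * y * b⁻¹) = gx P n y := by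
        intro b hb
        -- compare with the conjugated sum
        have : ∀ s : Finset W, ∀ y ∈ K, ∑ w ∈ s, gx P n ((w : Γ) * z * (w : Γ)⁻¹) = gx P n y →
            ∑ w ∈ s, gx P n (b * ((w : Γ) * z * (w : Γ)⁻¹) * b⁻¹) = gx P n (b * y * b⁻¹) := by
          intro s
          have hmap : ∀ {u v : Γ}, u ∈ K → v ∈ K → gx P n u = gx P n v →
              gx P n (b * u * b⁻¹) = gx P n (b * v * b⁻¹) := by
            intro u v hu hv huv
            have h0 : u⁻¹ * v ∈ P.lowerCentralSeries (n + 1) := by
              have hm := mul_mem (inv_mem hu) hv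
              have : gx P n (u⁻¹ * v) = 0 := by rw [gx_mul (inv_mem hu) hv, gx_inv hu, huv, neg_add_cancel]
              rw [gx_of_mem (lcs_le n hm)] at this
              exact mem_lcs_iff.mp (HigmanFPF.mem_of_io_eq_zero (mem_lcs_iff.mpr hm) this)
            have h1 := (mem_normalizer_iff.mp (le_normalizer_lcs F.normP (n + 1) (hW hb)) _).mp h0
            rw [show b * v * b⁻¹ = (b * u * b⁻¹) * (b * (u⁻¹ * v) * b⁻¹) by group,
              gx_mul (hconj ⟨b, hb⟩ hu) (P.lowerCentralSeries_antitone (Nat.le_succ n) h1), gx_eq_zero h1,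
              add_zero]
          induction s using Finset.induction with
          | empty =>
            intro y hy h
            rw [Finset.sum_empty] at h ⊢
            rw [hmap hy (one_mem K) (by rw [← h, gx_one]), mul_one, mul_inv_cancel, gx_one]
          | @insert w s hw ih =>
            intro y hy h
            rw [Finset.sum_insert hw] at h ⊢
            have hu : (w : Γ) * z * (w : Γ)⁻¹ ∈ K := hconj w hz.2
            have hu' : ((w : Γ) * z * (w : Γ)⁻¹)⁻¹ * y ∈ K := mul_mem (inv_mem hu) hy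
            have := ih _ hu' (by rw [gx_mul (inv_mem hu) hy, gx_inv hu, ← h]; abel)
            rw [this, ← gx_mul (hconj ⟨b, hb⟩ hu) (hconj ⟨b, hb⟩ hu')]
            exact congrArg _ (by group)
        rw [← this Finset.univ y hy.2 he, ← he]
        refine Fintype.sum_equiv (Equiv.mulLeft (⟨b, hb⟩ : W)) _ _ fun w => ?_
        refine congrArg _ ?_
        simp only [Equiv.coe_mulLeft, Subgroup.coe_mul, mul_inv_rev, mul_assoc]
      set N : Subgroup Γ := P.lowerCentralSeries (n + 1) ⊓ D i
      have hfix' : ∀ b ∈ W, y⁻¹ * (b * y * b⁻¹) ∈ N := by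
        intro b hb
        have hby := hconj ⟨b, hb⟩ hy.2
        refine ⟨?_, mul_mem ((D i).inv_mem hy.1) ((mem_normalizer_iff.mp (F.norm i (hW hb)) y).mp hy.1)⟩
        have hm : y⁻¹ * (b * y * b⁻¹) ∈ K := mul_mem (inv_mem hy.2) hby
        have : gx P n (y⁻¹ * (b * y * b⁻¹)) = 0 := by
          rw [gx_mul (inv_mem hy.2) hby, gx_inv hy.2, hfixed b hb, neg_add_cancel]
        rw [gx_of_mem (lcs_le n hm)] at this
        exact mem_lcs_iff.mp (HigmanFPF.mem_of_io_eq_zero (mem_lcs_iff.mpr hm) this)
      obtain ⟨u, hu, huc⟩ := Coprime.exists_fixed_mem_leftCoset (A := W) (N := N)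
        (hW.trans (le_trans (le_inf (le_normalizer_lcs F.normP (n + 1)) (F.norm i)) inf_normalizer_le_normalizer_inf))
        (hcard.coprime_dvd_right (card_dvd_of_le (inf_le_left.trans (lcs_le (n + 1))))) (Or.inl hsolvW) hfix'
      have hun : u ∈ K := P.lowerCentralSeries_antitone (Nat.le_succ n) hu.1
      rw [he]
      exact ⟨y * u, mem_iSup_of_mem i ⟨⟨mul_mem hy.1 hu.2, mul_mem hy.2 hun⟩, huc⟩,
        by rw [gx_mul hy.2 hun, gx_eq_zero hu.1, add_zero]⟩
    have hτg : τ g = Nat.card W • gx P n g := by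
      rw [Nat.card_eq_fintype_card, ← Finset.card_univ, ← Finset.sum_const]
      refine Finset.sum_congr rfl fun w _ => congrArg _ ?_
      rw [mem_centralizer_iff.mp hg.2 w w.2, mul_inv_cancel_right]
    have hmem : gx P n g ∈ I := by
      have h1 : Nat.card W • gx P n g ∈ I := hτg ▸ (hKT hg.1).2
      have h2 : Nat.card P • gx P n g = 0 := HigmanFPF.card_nsmul_eq_zero _
      have hgcd := Nat.gcd_eq_gcd_ab (Nat.card W) (Nat.card P)
      rw [hcard] at hgcd
      have hx1 : ((1 : ℕ) : ℤ) • gx P n g = gx P n g := by simp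
      rw [← hx1, hgcd, add_smul, mul_comm (Nat.card W : ℤ), mul_comm (Nat.card P : ℤ), mul_smul, mul_smul,
        natCast_zsmul, natCast_zsmul, h2, smul_zero, add_zero]
      exact zsmul_mem h1 _
    obtain ⟨r, hr, hre⟩ := hmem
    refine ⟨r, (iSup_mono fun i => inf_le_inf_right C inf_le_left : R ≤ _) hr, ?_, ?_⟩
    · have hm : r⁻¹ * g ∈ K := mul_mem (inv_mem (hRK hr)) hg.1
      have : gx P n (r⁻¹ * g) = 0 := by rw [gx_mul (inv_mem (hRK hr)) hg.1, gx_inv (hRK hr), hre, neg_add_cancel]
      rw [gx_of_mem (lcs_le n hm)] at this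
      exact mem_lcs_iff.mp (HigmanFPF.mem_of_io_eq_zero (mem_lcs_iff.mpr hm) this)
    · exact C.mul_mem (C.inv_mem ((iSup_le fun i => inf_le_right : R ≤ C) hr)) hg.2
  obtain ⟨c, hc⟩ := (isNilpotent_iff_lowerCentralSeries P).mp hnil
  suffices ∀ j n, n + j = c → P.lowerCentralSeries n ⊓ C ≤ ⨆ i, D i ⊓ C from this c 0 (Nat.zero_add c)
  intro j
  induction j with
  | zero =>
    intro n hn
    obtain rfl : n = c := hn
    rw [hc, bot_inf_eq]
    exact bot_le
  | succ j ih =>
    intro n hn g hg
    obtain ⟨r, hr, h⟩ := layer n g hg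
    have := mul_mem hr (ih (n + 1) (by omega) h)
    rwa [mul_inv_cancel_left] at this

/-- The family restricted to fixed points. -/
theorem Fam.restrict {p : ℕ} [Fact p.Prime] (F : Fam A P D e) (hnil : Group.IsNilpotent P)
    {W : Subgroup Γ} (hW : W ≤ A) :
    Fam A (P ⊓ centralizer (W : Set Γ)) (fun i => D i ⊓ centralizer (W : Set Γ)) e := by
  have hn : A ≤ normalizer (centralizer (W : Set Γ) : Set Γ) := le_normalizer_centralizer_of_comm hW
  refine ⟨fun i => inf_le_inf_right _ (F.le i),
    fun i => le_trans (le_inf (F.norm i) hn) inf_normalizer_le_normalizer_inf,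
    le_trans (le_inf F.normP hn) inf_normalizer_le_normalizer_inf,
    F.cop.coprime_dvd_right (card_dvd_of_le inf_le_left), F.gen_centralizer (p := p) hnil hW, ?_, ?_⟩
  · intro i j B hB
    obtain ⟨l, hl⟩ := F.close i j B hB
    refine ⟨l, le_inf ((inf_le_inf_right _ (commutator_mono inf_le_left inf_le_left)).trans hl) ?_⟩
    exact inf_le_left.trans ((commutator_mono inf_le_right inf_le_right).trans (commutator_le_self _))
  · intro i j
    exact le_bot_iff.mp ((iterC_mono inf_le_left inf_le_left e).trans (F.engel i j).le)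

end Cfsg.Agent.CoprimeClass
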