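import Cfsg.Agent.Coprime.Generation

/-!
Auxiliary facts on commutators, subgroups with cyclic quotient and class bounds.
-/

set_option autoImplicit false

open Subgroup
open scoped commutatorElement Pointwise
open Cfsg.Agent.Coprime (mem_normalizer_of_conj_smul_eq mem_sup_of_le_normalizer conj_smul_eq_map conj_smul_eq_self_of_mem_normalizer)

namespace Cfsg.Agent.CoprimeClass

variable {G : Type*} [Group G]

theorem commutator_iSup_le {ι κ : Sort*} {X : ι → Subgroup G} {Y : κ → Subgroup G} {S : Subgroup G}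
    (hX : ∀ i, X i ≤ normalizer (S : Set G)) (hY : ∀ j, Y j ≤ normalizer (S : Set G))
    (h : ∀ i j, ⁅X i, Y j⁆ ≤ S) : ⁅⨆ i, X i, ⨆ j, Y j⁆ ≤ S := by
  have hXs : (⨆ i, X i) ≤ normalizer (S : Set G) := iSup_le hX
  have hYs : (⨆ j, Y j) ≤ normalizer (S : Set G) := iSup_le hY
  have conjS : ∀ {g s : G}, g ∈ normalizer (S : Set G) → s ∈ S → g * s * g⁻¹ ∈ S := fun {g s} hg hs =>
    (mem_normalizer_iff.mp hg s).mp hs
  rw [commutator_le]
  intro x hx y hy
  let LY : G → Subgroup G := fun y =>
    { carrier := {x | x ∈ normalizer (S : Set G) ∧ ⁅x, y⁆ ∈ S}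
      one_mem' := ⟨one_mem _, by rw [commutatorElement_one_left]; exact S.one_mem⟩
      mul_mem' := fun {a b} ha hb => ⟨mul_mem ha.1 hb.1, by
        rw [show ⁅a * b, y⁆ = a * ⁅b, y⁆ * a⁻¹ * ⁅a, y⁆ by simp only [commutatorElement_def]; group]
        exact S.mul_mem (conjS ha.1 hb.2) ha.2⟩
      inv_mem' := fun {a} ha => ⟨inv_mem ha.1, by
        rw [show ⁅a⁻¹, y⁆ = a⁻¹ * ⁅a, y⁆⁻¹ * a⁻¹⁻¹ by simp only [commutatorElement_def]; group]
        exact conjS (inv_mem ha.1) (S.inv_mem ha.2)⟩ }
  let RX : G → Subgroup G := fun x =>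
    { carrier := {y | y ∈ normalizer (S : Set G) ∧ ⁅x, y⁆ ∈ S}
      one_mem' := ⟨one_mem _, by rw [commutatorElement_one_right]; exact S.one_mem⟩
      mul_mem' := fun {a b} ha hb => ⟨mul_mem ha.1 hb.1, by
        rw [show ⁅x, a * b⁆ = ⁅x, a⁆ * (a * ⁅x, b⁆ * a⁻¹) by simp only [commutatorElement_def]; group]
        exact S.mul_mem ha.2 (conjS ha.1 hb.2)⟩
      inv_mem' := fun {a} ha => ⟨inv_mem ha.1, by
        rw [show ⁅x, a⁻¹⁆ = a⁻¹ * ⁅x, a⁆⁻¹ * a⁻¹⁻¹ by simp only [commutatorElement_def]; group]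
        exact conjS (inv_mem ha.1) (S.inv_mem ha.2)⟩ }
  have step : ∀ i, ∀ a ∈ X i, (⨆ j, Y j) ≤ RX a := fun i a ha =>
    iSup_le fun j b hb => ⟨hY j hb, h i j (commutator_mem_commutator ha hb)⟩
  have : (⨆ i, X i) ≤ LY y := iSup_le fun i a ha => ⟨hX i ha, (step i a ha hy).2⟩
  exact (this hx).2

theorem le_normalizer_iSup_of_comm {ι : Sort*} {X : ι → Subgroup G} {K : Subgroup G}
    (h : ∀ i, ⁅X i, K⁆ ≤ ⨆ l, X l) : K ≤ normalizer ((⨆ l, X l : Subgroup G) : Set G) := by
  have key : ∀ k ∈ K, ∀ z ∈ ⨆ l, X l, k * z * k⁻¹ ∈ ⨆ l, X l := by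
    intro k hk z hz
    induction hz using iSup_induction' with
    | hp i z hz =>
      rw [show k * z * k⁻¹ = ⁅z, k⁆⁻¹ * z by simp only [commutatorElement_def]; group]
      exact mul_mem (inv_mem (h i (commutator_mem_commutator hz hk))) (mem_iSup_of_mem i hz)
    | h1 => simp
    | hmul a b _ _ ha hb =>
      rw [show k * (a * b) * k⁻¹ = k * a * k⁻¹ * (k * b * k⁻¹) by group]
      exact mul_mem ha hb
  intro k hk
  rw [mem_normalizer_iff]
  refine fun z => ⟨key k hk z, fun hz => ?_⟩
  have := key k⁻¹ (K.inv_mem hk) _ hz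
  simpa [mul_assoc] using this

theorem le_normalizer_iSup {ι : Sort*} {X : ι → Subgroup G} {A : Subgroup G}
    (h : ∀ i, A ≤ normalizer (X i : Set G)) : A ≤ normalizer ((⨆ i, X i : Subgroup G) : Set G) :=
  le_trans (le_iInf h) (iInf_normalizer_le_normalizer_iSup X)

theorem le_normalizer_commutator_of {A X Y : Subgroup G} (hX : A ≤ normalizer (X : Set G))
    (hY : A ≤ normalizer (Y : Set G)) : A ≤ normalizer ((⁅X, Y⁆ : Subgroup G) : Set G) := by
  intro a ha
  refine mem_normalizer_of_conj_smul_eq ?_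
  rw [conj_smul_eq_map, map_commutator, ← conj_smul_eq_map, ← conj_smul_eq_map,
    conj_smul_eq_self_of_mem_normalizer (hX ha), conj_smul_eq_self_of_mem_normalizer (hY ha)]

theorem le_normalizer_centralizer_of_comm {A B : Subgroup G} [IsMulCommutative A] (hB : B ≤ A) :
    A ≤ normalizer (centralizer (B : Set G) : Set G) := by
  refine le_trans (fun a ha => ?_) (le_normalizer : centralizer (B : Set G) ≤ _)
  exact mem_centralizer_iff.mpr fun b hb =>
    congrArg Subtype.val (IsMulCommutative.is_comm.comm (⟨b, hB hb⟩ : A) ⟨a, ha⟩)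

theorem le_normalizer_lcs {A X : Subgroup G} (hX : A ≤ normalizer (X : Set G)) (n : ℕ) :
    A ≤ normalizer ((X.lowerCentralSeries n : Subgroup G) : Set G) := by
  induction n with
  | zero => exact hX
  | succ n ih => exact le_normalizer_commutator_of ih hX

/-- The derived series of a subgroup, inside the group. -/
def der (X : Subgroup G) : ℕ → Subgroup G
  | 0 => X
  | n + 1 => ⁅der X n, der X n⁆

theorem der_mono {X Y : Subgroup G} (h : X ≤ Y) : ∀ n, der X n ≤ der Y n
  | 0 => h
  | n + 1 => commutator_mono (der_mono h n) (der_mono h n)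

theorem le_normalizer_der {A X : Subgroup G} (hX : A ≤ normalizer (X : Set G)) :
    ∀ n, A ≤ normalizer ((der X n : Subgroup G) : Set G)
  | 0 => hX
  | n + 1 => le_normalizer_commutator_of (le_normalizer_der hX n) (le_normalizer_der hX n)

theorem der_le_self (X : Subgroup G) : ∀ n, der X n ≤ X
  | 0 => le_rfl
  | n + 1 => (commutator_mono (der_le_self X n) (der_le_self X n)).trans (commutator_le_self X)

theorem der_le_lcs (X : Subgroup G) : ∀ n, der X n ≤ X.lowerCentralSeries n
  | 0 => le_rfl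
  | n + 1 => commutator_mono (der_le_lcs X n) (der_le_self X n)

theorem map_derivedSeries {H : Type*} [Group H] (f : H →* G) :
    ∀ n, (derivedSeries H n).map f = der f.range n
  | 0 => (MonoidHom.range_eq_map f).symm
  | n + 1 => by
    show (⁅derivedSeries H n, derivedSeries H n⁆).map f = _
    rw [map_commutator, map_derivedSeries f n]
    rfl

section Cocyclic

variable [Finite G] {p : ℕ} {A : Subgroup G} [IsMulCommutative A]

theorem card_le_card_mul_of_cocyclic {B : Subgroup G} (hp : ∀ a ∈ A, a ^ p = 1) (hp0 : 0 < p)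
    (hB : B ∈ Coprime.Cocyclic A) : Nat.card A ≤ Nat.card B * p := by
  obtain ⟨hBA, a, ha, hsup⟩ := hB
  have hZn : zpowers a ≤ normalizer (B : Set G) := by
    rw [zpowers_le, mem_normalizer_iff]
    intro b
    constructor
    · intro hb
      have e : a * b = b * a :=
        congrArg Subtype.val (IsMulCommutative.is_comm.comm (⟨a, ha⟩ : A) ⟨b, hBA hb⟩)
      rwa [e, mul_inv_cancel_right]
    · intro hb
      have hbA : b ∈ A := by
        have := A.mul_mem (A.mul_mem (A.inv_mem ha) (hBA hb)) ha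
        simpa [mul_assoc] using this
      have e : a * b = b * a :=
        congrArg Subtype.val (IsMulCommutative.is_comm.comm (⟨a, ha⟩ : A) ⟨b, hbA⟩)
      rwa [e, mul_inv_cancel_right] at hb
  have hf : Function.Surjective (fun x : B × zpowers a =>
      (⟨(x.1 : G) * x.2, A.mul_mem (hBA x.1.2) ((zpowers_le.mpr ha) x.2.2)⟩ : A)) := by
    rintro ⟨y, hy⟩
    have hy' : y ∈ B ⊔ zpowers a := by rw [hsup]; exact hy
    obtain ⟨b, hb, z, hz, rfl⟩ := (mem_sup_of_le_normalizer hZn).mp hy'
    exact ⟨(⟨b, hb⟩, ⟨z, hz⟩), rfl⟩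
  refine (Nat.card_le_card_of_surjective _ hf).trans ?_
  rw [Nat.card_prod, Nat.card_zpowers]
  exact Nat.mul_le_mul le_rfl (Nat.le_of_dvd hp0 (orderOf_dvd_of_pow_eq_one (hp a ha)))

theorem ncard_cocyclic_le : (Coprime.Cocyclic A).ncard ≤ 2 ^ Nat.card A := by
  have h : ((A : Set G).powerset).ncard = 2 ^ Nat.card A := by
    rw [Set.ncard_powerset _ (Set.toFinite _), ← Nat.card_coe_set_eq]
    rfl
  rw [← h]
  exact Set.ncard_le_ncard_of_injOn (fun B : Subgroup G => (B : Set G)) (fun B hB => hB.1)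
    SetLike.coe_injective.injOn (Set.toFinite _)

theorem le_of_cocyclic {K W : Subgroup G} (hAK : A ≤ normalizer (K : Set G))
    (hcop : (Nat.card A).Coprime (Nat.card K))
    (h : ∀ B ∈ Coprime.Cocyclic A, K ⊓ centralizer (B : Set G) ≤ W) : K ≤ W := by
  conv_lhs => rw [← Coprime.iSup_cocyclic_centralizer_eq hAK hcop]
  exact iSup₂_le h

end Cocyclic

/-- A product of normal subgroups of bounded class has bounded class. -/
theorem lcs_eq_bot_of_iSup {ι : Type*} [Fintype ι] {H : Subgroup G} {N D : ι → Subgroup G}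
    (hgen : H = ⨆ i, D i) (hDN : ∀ i, D i ≤ N i) (hNH : ∀ i, N i ≤ H)
    (hnorm : ∀ i, H ≤ normalizer (N i : Set G)) {c : ℕ} (hc : ∀ i, (N i).lowerCentralSeries c = ⊥) :
    H.lowerCentralSeries (Fintype.card ι * (c + 1)) = ⊥ := by
  classical
  let ser : ι → ℕ → Subgroup G := fun i => fun
    | 0 => H
    | j + 1 => (N i).lowerCentralSeries j
  have hsn : ∀ i j, H ≤ normalizer ((ser i j : Subgroup G) : Set G) := by
    intro i j
    cases j with
    | zero => exact le_normalizer
    | succ j => exact le_normalizer_lcs (hnorm i) j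
  have hstep : ∀ i j, ⁅ser i j, N i⁆ ≤ ser i (j + 1) := by
    intro i j
    cases j with
    | zero =>
      exact le_normalizer_iff_commutator_le_right.mp (hnorm i)
    | succ j => exact le_rfl
  have hsame : ∀ i l j, ⁅ser i j, N l⁆ ≤ ser i j := fun i l j =>
    le_normalizer_iff_commutator_le_left.mp ((hNH l).trans (hsn i j))
  let Mf : (ι → ℕ) → Subgroup G := fun f => H ⊓ ⨅ i, ser i (f i)
  have hMn : ∀ f, H ≤ normalizer ((Mf f : Subgroup G) : Set G) := fun f => by
    refine le_trans (le_inf le_normalizer ?_) inf_normalizer_le_normalizer_inf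
    intro h hh
    rw [mem_normalizer_iff]
    intro z
    simp only [mem_iInf]
    exact forall_congr' fun i => mem_normalizer_iff.mp (hsn i (f i) hh) z
  have key : ∀ n, H.lowerCentralSeries n ≤ ⨆ f : {f : ι → ℕ // ∑ i, f i = n}, Mf f.1 := by
    intro n
    induction n with
    | zero =>
      refine le_iSup_of_le ⟨fun _ => 0, by simp⟩ (le_inf le_rfl (le_iInf fun i => le_rfl))
    | succ n ih =>
      rw [Subgroup.lowerCentralSeries_succ]
      refine (commutator_mono ih hgen.le).trans ?_
      have hS : H ≤ normalizer ((⨆ f : {f : ι → ℕ // ∑ i, f i = n + 1}, Mf f.1 : Subgroup G) : Set G) :=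
        le_normalizer_iSup fun f => hMn _
      refine commutator_iSup_le (fun f => le_trans inf_le_left hS) (fun l => ?_) fun f l => ?_
      · exact ((hDN l).trans (hNH l)).trans hS
      · obtain ⟨f, hf⟩ := f
        refine le_trans ?_ (le_iSup _ ⟨Function.update f l (f l + 1), ?_⟩)
        · refine le_inf ((commutator_mono inf_le_left ((hDN l).trans (hNH l))).trans (commutator_le_self H))
            (le_iInf fun i => ?_)
          refine (commutator_mono (inf_le_right.trans (iInf_le _ i)) (hDN l)).trans ?_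
          by_cases hi : i = l
          · subst hi
            show ⁅ser i (f i), N i⁆ ≤ ser i (Function.update f i (f i + 1) i)
            rw [Function.update_self]
            exact hstep i (f i)
          · show ⁅ser i (f i), N l⁆ ≤ ser i (Function.update f l (f l + 1) i)
            rw [Function.update_of_ne hi]
            exact hsame i l (f i)
        · rw [Finset.sum_update_of_mem (Finset.mem_univ l)]
          have := Finset.add_sum_erase Finset.univ f (Finset.mem_univ l)
          rw [Finset.sdiff_singleton_eq_erase]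
          omega
  refine le_bot_iff.mp ((key _).trans (iSup_le fun f => ?_))
  obtain ⟨f, hf⟩ := f
  rcases isEmpty_or_nonempty ι with hι | hι
  · have hH : H = ⊥ := by rw [hgen, iSup_of_empty]
    exact (inf_le_left : Mf f ≤ H).trans hH.le
  obtain ⟨i, hi⟩ : ∃ i, c + 1 ≤ f i := by
    by_contra hcon
    push Not at hcon
    have h1 : ∑ i, f i ≤ Fintype.card ι * c := by
      have := Finset.sum_le_card_nsmul Finset.univ f c (fun i _ => by have := hcon i; omega)
      simpa using this
    have := Fintype.card_pos (α := ι)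
    rw [hf, Nat.mul_succ] at h1
    omega
  refine (inf_le_right.trans (iInf_le _ i)).trans ?_
  obtain ⟨d, hd⟩ := Nat.exists_eq_add_of_le hi
  show ser i (f i) ≤ ⊥
  rw [hd, show c + 1 + d = (c + d) + 1 by omega]
  show (N i).lowerCentralSeries (c + d) ≤ ⊥
  exact ((N i).lowerCentralSeries_antitone (Nat.le_add_right c d)).trans (hc i).le

end Cfsg.Agent.CoprimeClass
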