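import Cfsg.Agent.CoprimeClass.Collect
import Cfsg.Agent.HigmanFPF.Graded

/-!
Kreknin's argument for a Lie ring graded by a cyclic group of prime order whose zero component acts
nilpotently: a term of the derived series has only a zero component.
-/

set_option autoImplicit false
set_option linter.unusedSectionVars false

namespace Cfsg.Agent.CoprimeClass

open HigmanFPF (fbr dser lser mem_fbr dser_add Mono gen gen_mul)

variable {p : ℕ} [hp : Fact p.Prime] {M : Type*} [LieRing M]

/-- A graded subring. -/
def IsGraded (W : ZMod p → AddSubgroup M) : Prop :=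
  ∀ ⦃i j : ZMod p⦄ ⦃x y : M⦄, x ∈ W i → y ∈ W j → ⁅x, y⁆ ∈ W (i + j)

variable {W : ZMod p → AddSubgroup M}

theorem fbr_le (hW : IsGraded W) {U U' : ZMod p → AddSubgroup M} (hU : ∀ a, U a ≤ W a)
    (hU' : ∀ a, U' a ≤ W a) (a : ZMod p) : fbr U U' a ≤ W a := by
  rw [fbr, AddSubgroup.closure_le]
  rintro _ ⟨i, j, x, y, rfl, hx, hy, rfl⟩
  exact hW (hU _ hx) (hU' _ hy)

theorem dser_le (hW : IsGraded W) (n : ℕ) : ∀ a, dser W n a ≤ W a := by
  induction n with
  | zero => exact fun a => le_rfl
  | succ n ih => exact fbr_le hW ih ih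

theorem isGraded_dser (hW : IsGraded W) (n : ℕ) : IsGraded (dser W n) := by
  induction n with
  | zero => exact hW
  | succ n ih =>
    intro i j x y hx hy
    exact mem_fbr (fbr_le ih (fun _ => le_rfl) (fun _ => le_rfl) _ hx)
      (fbr_le ih (fun _ => le_rfl) (fun _ => le_rfl) _ hy)

theorem dser_antitone (hW : IsGraded W) {m n : ℕ} (h : m ≤ n) (a : ZMod p) :
    dser W n a ≤ dser W m a := by
  obtain ⟨d, rfl⟩ := Nat.exists_eq_add_of_le h
  rw [← dser_add]
  exact dser_le (isGraded_dser hW m) d a

theorem mono_mem (hW : IsGraded W) {k : ℕ} {b : ZMod p} {y : M} (hy : Mono k W b y) : y ∈ W b := by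
  induction hy with
  | base _ h => exact h
  | step _ _ h' ih => exact hW ih h'

theorem gen_mono {V : ZMod p → AddSubgroup M} (h : ∀ a, V a ≤ W a) (k : ℕ) (a : ZMod p) :
    gen k V a ≤ gen k W a := by
  rw [gen, AddSubgroup.closure_le]
  intro x hx
  refine AddSubgroup.subset_closure ?_
  induction hx with
  | base hb hc => exact .base hb (h _ hc)
  | step _ hb hc ih => exact Mono.step ih hb (h _ hc)

theorem gen_lie_zero (hW : IsGraded W) {k : ℕ} {b : ZMod p} {u l : M} (hu : u ∈ gen k W b)
    (hl : l ∈ W 0) : ⁅u, l⁆ ∈ gen k W b := by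
  have key : gen k W b ≤ leftInv (gen k W b) l := by
    clear hu
    rw [gen, AddSubgroup.closure_le]
    intro u hu
    show ⁅u, l⁆ ∈ gen k W b
    induction hu with
    | @base b x hb hx =>
      have h := hW hx hl
      rw [add_zero] at h
      exact AddSubgroup.subset_closure (.base hb h)
    | @step i j u c hu hj hc ih =>
      have e : ⁅⁅u, c⁆, l⁆ = ⁅⁅u, l⁆, c⁆ + ⁅u, ⁅c, l⁆⁆ := by
        rw [leibniz_lie u c l, ← lie_skew ⁅u, l⁆ c]; abel
      rw [e]
      have h := hW hc hl
      rw [add_zero] at h
      exact add_mem (gen_mul ih (AddSubgroup.subset_closure (.base hj hc)))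
        (AddSubgroup.subset_closure (Mono.step hu hj h))
  exact key hu

theorem mem_gen_of_sum {k : ℕ} (hW : IsGraded W) (hk : k + 1 < p) {b : ZMod p} {y : M}
    (hy : Mono k W b y) : ∀ {a : ZMod p} {x : M}, x ∈ W a → a + b = ((k + 1 : ℕ) : ZMod p) →
      ⁅x, y⁆ ∈ gen (k + 1) W (a + b) ⊔ br (W (a + b)) (W 0) := by
  have hlast : ∀ {a b : ZMod p} {x c : M}, x ∈ W a → k < b.val → c ∈ W b →
      a + b = ((k + 1 : ℕ) : ZMod p) → ⁅x, c⁆ ∈ gen (k + 1) W (a + b) ⊔ br (W (a + b)) (W 0) := by
    intro a b x c hx hb hc hab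
    have hk1 : ((k + 1 : ℕ) : ZMod p).val = k + 1 := ZMod.val_natCast_of_lt hk
    rcases (Nat.succ_le_iff.mpr hb).eq_or_lt with e | hb'
    · have ha : a = 0 := by
        have hb0 : b = ((k + 1 : ℕ) : ZMod p) := ZMod.val_injective p (by rw [hk1]; exact e.symm)
        rw [← hb0] at hab
        simpa using hab
      subst ha
      rw [zero_add, ← lie_skew]
      exact AddSubgroup.mem_sup_right (neg_mem (mem_br hc hx))
    · have ha : k + 1 < a.val := by
        by_contra hle
        have h1 := ZMod.val_add a b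
        rw [hab, hk1] at h1
        have hlt := b.val_lt
        have ha0 := a.val_lt
        rcases Nat.lt_or_ge (a.val + b.val) p with h | h
        · rw [Nat.mod_eq_of_lt h] at h1; omega
        · rw [Nat.mod_eq_sub_mod h, Nat.mod_eq_of_lt (by omega)] at h1; omega
      exact AddSubgroup.mem_sup_left
        (gen_mul (AddSubgroup.subset_closure (.base ha hx)) (AddSubgroup.subset_closure (.base hb' hc)))
  induction hy with
  | base hb hc => exact fun hx hab => hlast hx hb hc hab
  | @step i j u c hu hj hc ih =>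
    intro a x hx hab
    have e : ⁅x, ⁅u, c⁆⁆ = ⁅⁅x, u⁆, c⁆ - ⁅⁅x, c⁆, u⁆ := by
      rw [leibniz_lie x u c, ← lie_skew u ⁅x, c⁆]; abel
    rw [e]
    refine sub_mem ?_ ?_
    · rw [← add_assoc]
      exact hlast (hW hx (mono_mem hW hu)) hj hc (by rw [add_assoc]; exact hab)
    · rw [show a + (i + j) = a + j + i by ring]
      exact ih (hW hx hc) (by rw [← hab]; ring)

/-- The derived length in Kreknin's argument. -/
def krekninBound (m : ℕ) : ℕ → ℕ
  | 0 => 0
  | k + 1 => m * (krekninBound m k + 1) + krekninBound m k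

/-- Kreknin's argument: a term of the derived series of bounded index has only a zero component. -/
theorem dser_le_gen (m k : ℕ) : k < p → ∀ (W : ZMod p → AddSubgroup M), IsGraded W →
    (∀ a, a ≠ 0 → brN (W a) (W 0) m = ⊥) → ∀ a, a ≠ 0 → dser W (krekninBound m k) a ≤ gen k W a := by
  induction k with
  | zero =>
    intro _
    intro W _ _ a ha x hx
    exact AddSubgroup.subset_closure (.base (Nat.pos_of_ne_zero (by simpa using ha)) hx)
  | succ k ih =>
    intro hk
    have hn := ih (by omega)
    intro W hW hM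
    show ∀ a, a ≠ 0 → dser W (m * (krekninBound m k + 1) + krekninBound m k) a ≤ _
    set n := krekninBound m k
    -- one round
    have one : ∀ V : ZMod p → AddSubgroup M, IsGraded V →
        (∀ a, a ≠ 0 → brN (V a) (V 0) m = ⊥) → ∀ b : ZMod p, b.val = k + 1 →
        dser V (n + 1) b ≤ gen (k + 1) V b ⊔ br (V b) (V 0) := by
      intro V hV hMV b hb
      show fbr _ _ b ≤ _
      rw [fbr, AddSubgroup.closure_le]
      rintro _ ⟨i, j, x, y, rfl, hx, hy, rfl⟩
      have hx' := dser_le hV n _ hx
      by_cases hj : j = 0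
      · subst hj
        rw [add_zero]
        exact AddSubgroup.mem_sup_right (mem_br hx' (dser_le hV n _ hy))
      · have hle : gen k V j ≤ rightInv (gen (k + 1) V (i + j) ⊔ br (V (i + j)) (V 0)) x := by
          rw [gen, AddSubgroup.closure_le]
          exact fun z hz => mem_gen_of_sum hV hk hz hx' (by rw [← hb, ZMod.natCast_zmod_val])
        exact hle (hn V hV hMV j hj hy)
    have hiter : ∀ t, ∀ b : ZMod p, b.val = k + 1 →
        dser W (t * (n + 1)) b ≤ gen (k + 1) W b ⊔ brN (W b) (W 0) t := by
      intro t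
      induction t with
      | zero => exact fun b _ => (dser_le hW _ b).trans le_sup_right
      | succ t iht =>
        intro b hb
        rw [Nat.succ_mul, ← dser_add]
        have hV := isGraded_dser hW (t * (n + 1))
        refine (one _ hV (fun a ha => le_bot_iff.mp
          ((brN_mono (dser_le hW _ a) (dser_le hW _ 0) m).trans (hM a ha).le)) b hb).trans
          (sup_le ((gen_mono (dser_le hW _) _ _).trans le_sup_left) ?_)
        refine (br_mono (iht b hb) (dser_le hW _ 0)).trans ?_
        rw [br_sup_left]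
        exact sup_le_sup (br_le.mpr fun u hu l hl => gen_lie_zero hW hu hl) le_rfl
    have hmid : ∀ b : ZMod p, b.val = k + 1 → dser W (m * (n + 1)) b ≤ gen (k + 1) W b := by
      intro b hb
      have hb0 : b ≠ 0 := fun h => by rw [h, ZMod.val_zero] at hb; omega
      refine (hiter m b hb).trans (sup_le le_rfl ?_)
      rw [hM b hb0]
      exact bot_le
    intro a ha
    rw [← dser_add]
    refine (hn _ (isGraded_dser hW _) (fun c hc => le_bot_iff.mp
      ((brN_mono (dser_le hW _ c) (dser_le hW _ 0) m).trans (hM c hc).le)) a ha).trans ?_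
    rw [gen, AddSubgroup.closure_le]
    intro x hx
    clear ha
    induction hx with
    | @base b x hb hx =>
      rcases (Nat.succ_le_iff.mpr hb).eq_or_lt with e | e
      · exact hmid b e.symm hx
      · exact AddSubgroup.subset_closure (.base e (dser_le hW _ _ hx))
    | @step i j u c _ hj hc ih =>
      refine gen_mul ih ?_
      rcases (Nat.succ_le_iff.mpr hj).eq_or_lt with e | e
      · exact hmid j e.symm hc
      · exact AddSubgroup.subset_closure (.base e (dser_le hW _ _ hc))

/-- The nonzero components of a derived term of bounded index vanish. -/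
theorem dser_eq_bot (m : ℕ) (W : ZMod p → AddSubgroup M) (hW : IsGraded W)
    (hM : ∀ a, a ≠ 0 → brN (W a) (W 0) m = ⊥) (a : ZMod p) (ha : a ≠ 0) :
    dser W (krekninBound m (p - 1)) a = ⊥ := by
  refine le_bot_iff.mp ((dser_le_gen m (p - 1) (by have := hp.out.one_lt; omega) W hW hM a ha).trans ?_)
  rw [gen, AddSubgroup.closure_le]
  intro x hx
  exfalso
  clear ha
  induction hx with
  | @base b _ hb _ => have := b.val_lt; omega
  | step _ _ _ ih => exact ih

end Cfsg.Agent.CoprimeClass
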