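import Cfsg.Agent.CoprimeClass.Group

/-!
Special subgroups of the derived and lower central terms of a group with a coprime abelian group of
operators.
-/

set_option autoImplicit false

open Subgroup
open scoped commutatorElement

namespace Cfsg.Agent.CoprimeClass

variable {Γ : Type*} [Group Γ]

/-- The fixed points of the subgroups with cyclic quotient. -/
def baseLev (A Y : Subgroup Γ) : Set (Subgroup Γ) :=
  {X | ∃ B ∈ Coprime.Cocyclic A, X = Y ⊓ centralizer (B : Set Γ)}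

/-- The next level. -/
def nextLev (A : Subgroup Γ) (S T : Set (Subgroup Γ)) : Set (Subgroup Γ) :=
  {X | ∃ D ∈ S, ∃ E ∈ T, ∃ B ∈ Coprime.Cocyclic A, X = ⁅D, E⁆ ⊓ centralizer (B : Set Γ)}

/-- The levels for the derived series. -/
def derLev (A Y : Subgroup Γ) : ℕ → Set (Subgroup Γ)
  | 0 => baseLev A Y
  | i + 1 => nextLev A (derLev A Y i) (derLev A Y i)

/-- The levels for the lower central series. -/
def lcsLev (A Y : Subgroup Γ) : ℕ → Set (Subgroup Γ)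
  | 0 => baseLev A Y
  | i + 1 => nextLev A (lcsLev A Y i) (baseLev A Y)

/-- A subgroup of `A` of small index whose fixed points already give `D`. -/
def Small (A Y : Subgroup Γ) (p L : ℕ) (Φ : Subgroup Γ → Subgroup Γ) (D : Subgroup Γ) : Prop :=
  ∃ W ≤ A, Nat.card A ≤ Nat.card W * p ^ L ∧ D ≤ Φ (Y ⊓ centralizer (W : Set Γ))

/-- A level `S`, its elements being commutated with those of `T`. -/
structure Lvl (A Y : Subgroup Γ) (p L : ℕ) (Φ : Subgroup Γ → Subgroup Γ) (S T : Set (Subgroup Γ)) :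
    Prop where
  ne : S.Nonempty
  norm : ∀ D ∈ S, A ≤ normalizer (D : Set Γ)
  below : ∀ D ∈ S, ∃ E ∈ baseLev A Y, D ≤ E
  toT : ∀ D ∈ S, ∃ E ∈ T, D ≤ E
  small : ∀ D ∈ S, Small A Y p L Φ D
  gen : Φ Y = ⨆ D : S, (D : Subgroup Γ)
  step : ∀ D ∈ S, ∀ E ∈ T, ∀ B ∈ Coprime.Cocyclic A, ∃ D' ∈ S, ⁅D, E⁆ ⊓ centralizer (B : Set Γ) ≤ D'

theorem self_mem_cocyclic (A : Subgroup Γ) : A ∈ Coprime.Cocyclic A :=
  ⟨le_rfl, 1, one_mem _, by rw [zpowers_one_eq_bot, sup_bot_eq]⟩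

theorem le_of_below {A Y D : Subgroup Γ} (h : ∃ E ∈ baseLev A Y, D ≤ E) : D ≤ Y := by
  obtain ⟨_, ⟨B, -, rfl⟩, hle⟩ := h
  exact hle.trans inf_le_left

theorem Lvl.le {A Y : Subgroup Γ} {p L : ℕ} {Φ : Subgroup Γ → Subgroup Γ} {S T : Set (Subgroup Γ)}
    (h : Lvl A Y p L Φ S T) {D : Subgroup Γ} (hD : D ∈ S) : D ≤ Y :=
  le_of_below (h.below D hD)

variable [Finite Γ]

theorem card_le_card_inf_mul {A W₁ W₂ : Subgroup Γ} (h₁ : W₁ ≤ A) (h₂ : W₂ ≤ A) {a b : ℕ}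
    (ha : Nat.card A ≤ Nat.card W₁ * a) (hb : Nat.card A ≤ Nat.card W₂ * b) :
    Nat.card A ≤ Nat.card (W₁ ⊓ W₂ : Subgroup Γ) * (a * b) := by
  have key : ∀ {W : Subgroup Γ}, W ≤ A → Nat.card W * W.relIndex A = Nat.card A := by
    intro W hW
    rw [← relIndex_bot_left W, relIndex_mul_relIndex _ _ _ bot_le hW, relIndex_bot_left]
  have h1 : W₁.relIndex A ≤ a := by
    rw [← key h₁] at ha
    exact Nat.le_of_mul_le_mul_left ha Nat.card_pos
  have h2 : W₂.relIndex A ≤ b := by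
    rw [← key h₂] at hb
    exact Nat.le_of_mul_le_mul_left hb Nat.card_pos
  calc Nat.card A = Nat.card (W₁ ⊓ W₂ : Subgroup Γ) * (W₁ ⊓ W₂).relIndex A :=
        (key (inf_le_left.trans h₁)).symm
    _ ≤ _ := Nat.mul_le_mul le_rfl (relIndex_inf_le.trans (Nat.mul_le_mul h1 h2))

variable {A Y : Subgroup Γ} [IsMulCommutative A] {p : ℕ}

theorem lvl_base (hp : ∀ a ∈ A, a ^ p = 1) (hp0 : 0 < p) (hAY : A ≤ normalizer (Y : Set Γ))
    (hcop : (Nat.card A).Coprime (Nat.card Y)) :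
    Lvl A Y p 1 (fun X => X) (baseLev A Y) (baseLev A Y) where
  ne := ⟨_, A, self_mem_cocyclic A, rfl⟩
  norm := by
    rintro _ ⟨B, hB, rfl⟩
    exact le_trans (le_inf hAY (le_normalizer_centralizer_of_comm hB.1)) inf_normalizer_le_normalizer_inf
  below D hD := ⟨D, hD, le_rfl⟩
  toT D hD := ⟨D, hD, le_rfl⟩
  small := by
    rintro _ ⟨B, hB, rfl⟩
    exact ⟨B, hB.1, by rw [pow_one]; exact card_le_card_mul_of_cocyclic hp hp0 hB, le_rfl⟩
  gen := by
    refine le_antisymm (le_of_cocyclic hAY hcop fun B hB => ?_) (iSup_le ?_)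
    · exact le_iSup_of_le (⟨_, B, hB, rfl⟩ : baseLev A Y) le_rfl
    · rintro ⟨_, B, hB, rfl⟩
      exact inf_le_left
  step := by
    rintro _ ⟨B₁, hB₁, rfl⟩ _ ⟨B₂, hB₂, rfl⟩ B hB
    exact ⟨_, ⟨B, hB, rfl⟩, inf_le_inf_right _
      ((commutator_mono inf_le_left inf_le_left).trans (commutator_le_self Y))⟩

/-- One more commutation. -/
theorem Lvl.next {L L₂ : ℕ} {Φ Ψ : Subgroup Γ → Subgroup Γ} {S T T' : Set (Subgroup Γ)}
    (h : Lvl A Y p L Φ S T) (hcop : (Nat.card A).Coprime (Nat.card Y))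
    (hΦ : Monotone Φ) (hΨ : Monotone Ψ)
    (hTn : ∀ E ∈ T, A ≤ normalizer (E : Set Γ)) (hTb : ∀ E ∈ T, E ≤ Y)
    (hTgen : Ψ Y = ⨆ E : T, (E : Subgroup Γ)) (hTs : ∀ E ∈ T, Small A Y p L₂ Ψ E)
    (hT' : ∀ E ∈ T', ∃ E₀ ∈ T, E ≤ E₀) (hST' : ∀ X ∈ nextLev A S T, ∃ E ∈ T', X ≤ E) :
    Lvl A Y p (L + L₂) (fun X => ⁅Φ X, Ψ X⁆) (nextLev A S T) T' where
  ne := by
    obtain ⟨D, hD⟩ := h.ne
    obtain ⟨E, hE, -⟩ := h.toT D hD
    exact ⟨_, D, hD, E, hE, A, self_mem_cocyclic A, rfl⟩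
  norm := by
    rintro _ ⟨D, hD, E, hE, B, hB, rfl⟩
    exact le_trans (le_inf (le_normalizer_commutator_of (h.norm D hD) (hTn E hE))
      (le_normalizer_centralizer_of_comm hB.1)) inf_normalizer_le_normalizer_inf
  below := by
    rintro _ ⟨D, hD, E, hE, B, hB, rfl⟩
    exact ⟨_, ⟨B, hB, rfl⟩, inf_le_inf_right _
      ((commutator_mono (h.le hD) (hTb E hE)).trans (commutator_le_self Y))⟩
  toT := hST'
  small := by
    rintro _ ⟨D, hD, E, hE, B, -, rfl⟩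
    obtain ⟨W₁, hW₁, hc₁, hD'⟩ := h.small D hD
    obtain ⟨W₂, hW₂, hc₂, hE'⟩ := hTs E hE
    refine ⟨W₁ ⊓ W₂, inf_le_left.trans hW₁, by rw [pow_add]; exact card_le_card_inf_mul hW₁ hW₂ hc₁ hc₂,
      inf_le_left.trans (commutator_mono (hD'.trans (hΦ ?_)) (hE'.trans (hΨ ?_)))⟩
    · exact inf_le_inf_left _ (centralizer_le fun x hx => hx.1)
    · exact inf_le_inf_left _ (centralizer_le fun x hx => hx.2)
  gen := by
    show ⁅Φ Y, Ψ Y⁆ = _
    rw [h.gen, hTgen]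
    set U := ⨆ X : nextLev A S T, (X : Subgroup Γ) with hU
    have hDE : ∀ D ∈ S, ∀ E ∈ T, ⁅D, E⁆ ≤ U := fun D hD E hE =>
      le_of_cocyclic (le_normalizer_commutator_of (h.norm D hD) (hTn E hE))
        (hcop.coprime_dvd_right (card_dvd_of_le
          ((commutator_mono (h.le hD) (hTb E hE)).trans (commutator_le_self Y))))
        fun B hB => le_iSup_of_le (⟨_, D, hD, E, hE, B, hB, rfl⟩ : nextLev A S T) le_rfl
    have hEn : ∀ E ∈ T, E ≤ normalizer (U : Set Γ) := fun E hE =>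
      le_normalizer_iSup_of_comm fun X => by
        obtain ⟨_, D, hD, E₁, hE₁, B, hB, rfl⟩ := X
        obtain ⟨D', hD', hle⟩ := h.step D hD E₁ hE₁ B hB
        exact (commutator_mono hle le_rfl).trans (hDE D' hD' E hE)
    have hDn : ∀ D ∈ S, D ≤ normalizer (U : Set Γ) := fun D hD => by
      obtain ⟨E, hE, hle⟩ := h.toT D hD
      exact hle.trans (hEn E hE)
    refine le_antisymm (commutator_iSup_le (fun D => hDn D D.2) (fun E => hEn E E.2)
      fun D E => hDE D D.2 E E.2) (iSup_le ?_)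
    rintro ⟨_, D, hD, E, hE, B, hB, rfl⟩
    exact inf_le_left.trans (commutator_mono (le_iSup_of_le (⟨D, hD⟩ : S) le_rfl)
      (le_iSup_of_le (⟨E, hE⟩ : T) le_rfl))
  step := by
    rintro _ ⟨D, hD, E, hE, B, hB, rfl⟩ E' hE' B' hB'
    obtain ⟨D', hD', hle⟩ := h.step D hD E hE B hB
    obtain ⟨E₀, hE₀, hle'⟩ := hT' E' hE'
    exact ⟨_, ⟨D', hD', E₀, hE₀, B', hB', rfl⟩, inf_le_inf_right _ (commutator_mono hle hle')⟩

theorem lvl_der (hp : ∀ a ∈ A, a ^ p = 1) (hp0 : 0 < p) (hAY : A ≤ normalizer (Y : Set Γ))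
    (hcop : (Nat.card A).Coprime (Nat.card Y)) :
    ∀ i, Lvl A Y p (2 ^ i) (fun X => der X i) (derLev A Y i) (derLev A Y i) := by
  intro i
  induction i with
  | zero => exact lvl_base hp hp0 hAY hcop
  | succ i ih =>
    have := ih.next (L₂ := 2 ^ i) (T' := derLev A Y (i + 1)) hcop (fun _ _ h => der_mono h i)
      (fun _ _ h => der_mono h i) ih.norm (fun E hE => ih.le hE) ih.gen ih.small
      (fun X hX => by
        obtain ⟨D, hD, E, hE, B, hB, rfl⟩ := hX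
        exact ih.step D hD E hE B hB)
      (fun X hX => ⟨X, hX, le_rfl⟩)
    rwa [← two_mul, ← pow_succ'] at this

theorem lvl_lcs (hp : ∀ a ∈ A, a ^ p = 1) (hp0 : 0 < p) (hAY : A ≤ normalizer (Y : Set Γ))
    (hcop : (Nat.card A).Coprime (Nat.card Y)) :
    ∀ i, Lvl A Y p (i + 1) (fun X => X.lowerCentralSeries i) (lcsLev A Y i) (baseLev A Y) := by
  have hb := lvl_base hp hp0 hAY hcop
  intro i
  induction i with
  | zero => exact hb
  | succ i ih =>
    have := ih.next (L₂ := 1) (T' := baseLev A Y) hcop (fun _ _ h => lowerCentralSeries_mono i h)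
      (fun _ _ h => h) hb.norm (fun E hE => hb.le hE) hb.gen hb.small
      (fun X hX => ⟨X, hX, le_rfl⟩)
      (fun X hX => by
        obtain ⟨D, hD, E, hE, B, hB, rfl⟩ := hX
        exact ⟨_, ⟨B, hB, rfl⟩, inf_le_inf_right _
          ((commutator_mono (ih.le hD) (hb.le hE)).trans (commutator_le_self Y))⟩)
    exact this

/-- The bound for the number of special subgroups, derived series. -/
def derNum (q : ℕ) : ℕ → ℕ
  | 0 => q
  | i + 1 => derNum q i * (derNum q i * q)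

/-- The bound for the number of special subgroups, lower central series. -/
def lcsNum (q : ℕ) : ℕ → ℕ
  | 0 => q
  | i + 1 => lcsNum q i * (q * q)

theorem ncard_baseLev_le : (baseLev A Y).ncard ≤ 2 ^ Nat.card A := by
  refine le_trans ?_ (ncard_cocyclic_le (A := A))
  refine le_trans (Set.ncard_le_ncard (t := (fun B : Subgroup Γ => Y ⊓ centralizer (B : Set Γ)) ''
    Coprime.Cocyclic A) ?_ (Set.toFinite _)) (Set.ncard_image_le (Set.toFinite _))
  rintro _ ⟨B, hB, rfl⟩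
  exact ⟨B, hB, rfl⟩

theorem ncard_nextLev_le (S T : Set (Subgroup Γ)) :
    (nextLev A S T).ncard ≤ S.ncard * (T.ncard * 2 ^ Nat.card A) := by
  refine le_trans (Set.ncard_le_ncard (t := (fun t : Subgroup Γ × Subgroup Γ × Subgroup Γ =>
    ⁅t.1, t.2.1⁆ ⊓ centralizer (t.2.2 : Set Γ)) '' (S ×ˢ (T ×ˢ Coprime.Cocyclic A))) ?_ (Set.toFinite _))
    (le_trans (Set.ncard_image_le (Set.toFinite _)) ?_)
  · rintro _ ⟨D, hD, E, hE, B, hB, rfl⟩
    exact ⟨(D, E, B), ⟨hD, hE, hB⟩, rfl⟩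
  · rw [Set.ncard_prod, Set.ncard_prod]
    exact Nat.mul_le_mul le_rfl (Nat.mul_le_mul le_rfl ncard_cocyclic_le)

theorem ncard_derLev_le : ∀ i, (derLev A Y i).ncard ≤ derNum (2 ^ Nat.card A) i
  | 0 => ncard_baseLev_le
  | i + 1 => (ncard_nextLev_le _ _).trans
      (Nat.mul_le_mul (ncard_derLev_le i) (Nat.mul_le_mul (ncard_derLev_le i) le_rfl))

theorem ncard_lcsLev_le : ∀ i, (lcsLev A Y i).ncard ≤ lcsNum (2 ^ Nat.card A) i
  | 0 => ncard_baseLev_le
  | i + 1 => (ncard_nextLev_le _ _).trans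
      (Nat.mul_le_mul (ncard_lcsLev_le i) (Nat.mul_le_mul ncard_baseLev_le le_rfl))

end Cfsg.Agent.CoprimeClass
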