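import Cfsg.Agent.CoprimeClass.Group
import Cfsg.Agent.Coprime.Action

/-!
A solvable group generated by elements that are bounded Engel on the fixed points of the subgroups
with cyclic quotient of a coprime abelian group of operators is nilpotent.
-/

set_option autoImplicit false

open Subgroup
open scoped commutatorElement Pointwise

namespace Cfsg.Agent.CoprimeClass

universe u

/-- Iterated commutator of elements. -/
def eIter {G : Type*} [Group G] (y x : G) : ℕ → G
  | 0 => y
  | n + 1 => ⁅eIter y x n, x⁆

theorem map_eIter {G H : Type*} [Group G] [Group H] (f : G →* H) (y x : G) :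
    ∀ n, f (eIter y x n) = eIter (f y) (f x) n
  | 0 => rfl
  | n + 1 => by
    show f ⁅eIter y x n, x⁆ = ⁅eIter (f y) (f x) n, f x⁆
    rw [map_commutatorElement, map_eIter f y x n]

theorem nilpotent_aux : ∀ N : ℕ, ∀ {Γ : Type u} [Group Γ] [Finite Γ] (A P : Subgroup Γ)
    [IsMulCommutative A] (s : Set Γ) (e : ℕ),
    Nat.card P ≤ N → A ≤ normalizer (P : Set Γ) → (Nat.card A).Coprime (Nat.card P) →
    Group.IsSolvable P → closure s = P → (∀ x ∈ s, ∀ j : ℕ, x ^ j ∈ s) →
    (∀ x ∈ s, ∀ B ∈ Coprime.Cocyclic A, ∀ y ∈ P ⊓ centralizer (B : Set Γ), eIter y x e = 1) →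
    Group.IsNilpotent P := by
  intro N
  induction N with
  | zero =>
    intro Γ _ _ A P _ s e h
    exact absurd (Nat.card_pos (α := P)) (by omega)
  | succ N ih =>
    intro Γ _ _ A P hA s e hN hAP hcop hsolv hs hpow heng
    by_cases hP : P = ⊥
    · subst hP
      exact Group.isNilpotent_of_subsingleton
    -- an abelian invariant normal subgroup of prime exponent
    obtain ⟨V, q, hq, hVP, hPV, hAV, hV1, hab, hexp⟩ : ∃ V : Subgroup Γ, ∃ q : ℕ, q.Prime ∧ V ≤ P ∧
        P ≤ normalizer (V : Set Γ) ∧ A ≤ normalizer (V : Set Γ) ∧ V ≠ ⊥ ∧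
        (∀ x ∈ V, ∀ y ∈ V, x * y = y * x) ∧ ∀ x ∈ V, x ^ q = 1 := by
      obtain ⟨m, hm⟩ := (Group.isSolvable_def P).mp hsolv
      have hm' : der P m = ⊥ := by
        have := map_derivedSeries P.subtype m
        rw [hm, Subgroup.map_bot, P.range_subtype] at this
        exact this.symm
      obtain ⟨j, hj, hj1⟩ : ∃ j, der P j ≠ ⊥ ∧ der P (j + 1) = ⊥ := by
        by_contra hcon
        push Not at hcon
        have : ∀ j, der P j ≠ ⊥ := fun j => by
          induction j with
          | zero => exact hP
          | succ j ih => exact hcon j ih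
        exact this m hm'
      set U := der P j
      obtain ⟨q, hq, hdvd⟩ := Nat.exists_prime_and_dvd (n := Nat.card U)
        (fun h => hj (Subgroup.eq_bot_of_card_eq _ h))
      have := Fact.mk hq
      have hU : ∀ x ∈ U, ∀ y ∈ U, x * y = y * x := fun x hx y hy =>
        commutatorElement_eq_one_iff_mul_comm.mp (Subgroup.mem_bot.mp (hj1 ▸ commutator_mem_commutator hx hy))
      let V : Subgroup Γ :=
        { carrier := {x | x ∈ U ∧ x ^ q = 1}
          one_mem' := ⟨one_mem _, one_pow _⟩
          mul_mem' := fun {a b} ha hb => ⟨mul_mem ha.1 hb.1, by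
            rw [Commute.mul_pow (hU a ha.1 b hb.1), ha.2, hb.2, one_mul]⟩
          inv_mem' := fun {a} ha => ⟨inv_mem ha.1, by rw [inv_pow, ha.2, inv_one]⟩ }
      have hnorm : ∀ {g : Γ}, g ∈ normalizer (U : Set Γ) → g ∈ normalizer (V : Set Γ) := by
        intro g hg
        rw [mem_normalizer_iff]
        intro x
        show (x ∈ U ∧ x ^ q = 1) ↔ (g * x * g⁻¹ ∈ U ∧ (g * x * g⁻¹) ^ q = 1)
        rw [conj_pow, conj_eq_one_iff]
        exact and_congr_left' (mem_normalizer_iff.mp hg x)
      refine ⟨V, q, hq, fun x hx => der_le_self P j hx.1,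
        fun g hg => hnorm (le_normalizer_der le_normalizer j hg),
        fun g hg => hnorm (le_normalizer_der hAP j hg), ?_,
        fun x hx y hy => hU x hx.1 y hy.1, fun x hx => hx.2⟩
      obtain ⟨x, hx⟩ := exists_prime_orderOf_dvd_card' q hdvd
      intro hbot
      have hxV : (x : Γ) ∈ V := ⟨x.2, by rw [← SubmonoidClass.coe_pow, ← hx, pow_orderOf_eq_one, OneMemClass.coe_one]⟩
      rw [hbot, Subgroup.mem_bot] at hxV
      rw [show x = 1 from Subtype.ext hxV, orderOf_one] at hx
      exact hq.ne_one hx.symm
    have := Fact.mk hq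
    have hVq : IsPGroup q V := fun x => ⟨1, Subtype.ext (by
      rw [pow_one, SubmonoidClass.coe_pow, OneMemClass.coe_one]; exact hexp x x.2)⟩
    -- the quotient
    set Nn := normalizer (V : Set Γ) with hNn
    set V' := V.subgroupOf Nn with hV'
    haveI : V'.Normal := Subgroup.normal_subgroupOf_of_le_normalizer le_rfl
    set π := QuotientGroup.mk' V' with hπ
    set P' := (P.subgroupOf Nn).map π with hP'
    set A' := (A.subgroupOf Nn).map π with hA'
    set s' : Set (Nn ⧸ V') := π '' {x | (x : Γ) ∈ s} with hs'
    have hsP : s ⊆ (P : Set Γ) := hs ▸ Subgroup.subset_closure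
    have hcardP : Nat.card (P.subgroupOf Nn) = Nat.card P :=
      Nat.card_congr (Subgroup.subgroupOfEquivOfLe hPV).toEquiv
    have hcardA : Nat.card (A.subgroupOf Nn) = Nat.card A :=
      Nat.card_congr (Subgroup.subgroupOfEquivOfLe hAV).toEquiv
    have hlt : Nat.card P' < Nat.card P := by
      rw [← hcardP]
      refine lt_of_le_of_ne (Nat.le_of_dvd Nat.card_pos (Subgroup.card_map_dvd _ π)) fun heq => hV1 ?_
      obtain ⟨-, hinj⟩ := (Nat.bijective_iff_surjective_and_card (π.subgroupMap (P.subgroupOf Nn))).mpr
        ⟨π.subgroupMap_surjective _, heq.symm⟩ |>.symm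
      rw [eq_bot_iff]
      intro v hv
      have : (⟨⟨v, le_normalizer hv⟩, hVP hv⟩ : P.subgroupOf Nn) = 1 := hinj (Subtype.ext (by
        show π ⟨v, le_normalizer hv⟩ = π 1
        rw [map_one]
        exact (QuotientGroup.eq_one_iff _).mpr hv))
      exact congrArg (fun x : P.subgroupOf Nn => ((x : Nn) : Γ)) this
    haveI : IsMulCommutative A' := ⟨⟨by
      rintro ⟨_, x, hx, rfl⟩ ⟨_, y, hy, rfl⟩
      refine Subtype.ext ?_
      show π x * π y = π y * π x
      rw [← map_mul, ← map_mul]
      exact congrArg π (Subtype.ext (congrArg (fun z : A => (z : Γ))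
        (IsMulCommutative.is_comm.comm (⟨(x : Γ), hx⟩ : A) ⟨(y : Γ), hy⟩)))⟩⟩
    have hP'n : Group.IsNilpotent P' := by
      refine ih A' P' s' e (by omega) ?_ ?_ ?_ ?_ ?_ ?_
      · rintro _ ⟨a, ha, rfl⟩
        refine Coprime.mem_normalizer_of_conj_smul_eq ?_
        have : MulAut.conj (π a) • P' = ((P.subgroupOf Nn).map π) := by
          rw [hP', Coprime.conj_smul_eq_map, Subgroup.map_map]
          have e1 : (MulAut.conj (π a)).toMonoidHom.comp π = π.comp (MulAut.conj a).toMonoidHom :=
            MonoidHom.ext fun z => by simp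
          rw [e1, ← Subgroup.map_map, ← Coprime.conj_smul_eq_map, Coprime.conj_smul_eq_self_of_mem_normalizer]
          rw [mem_normalizer_iff]
          intro z
          exact mem_normalizer_iff.mp (hAP ha) (z : Γ)
        exact this
      · exact (hcop.coprime_dvd_left (hcardA ▸ Subgroup.card_map_dvd _ π)).coprime_dvd_right
          (hcardP ▸ Subgroup.card_map_dvd _ π)
      · haveI := hsolv
        haveI : Group.IsSolvable (P.subgroupOf Nn) :=
          Group.isSolvable_of_isSolvable_injective (f := (Subgroup.subgroupOfEquivOfLe hPV).toMonoidHom)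
            (MulEquiv.injective _)
        exact Group.isSolvable_of_surjective (π.subgroupMap_surjective _)
      · rw [hs', ← MonoidHom.map_closure, hP']
        congr 1
        refine Subgroup.map_injective Nn.subtype_injective ?_
        rw [MonoidHom.map_closure, subgroupOf_map_subtype, inf_eq_left.mpr hPV]
        conv_rhs => rw [← hs]
        congr 1
        ext z
        exact ⟨fun ⟨x, hx, hxz⟩ => hxz ▸ hx, fun hz => ⟨⟨z, hPV (hsP hz)⟩, hz, rfl⟩⟩
      · rintro _ ⟨x, hx, rfl⟩ j
        exact ⟨x ^ j, hpow _ hx j, map_pow π x j⟩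
      · rintro _ ⟨x, hx, rfl⟩ B' ⟨hB'A, a', ha', hsup⟩ y' hy'
        obtain ⟨a, ha, rfl⟩ := ha'
        set B : Subgroup Γ := ((A.subgroupOf Nn) ⊓ B'.comap π).map Nn.subtype with hB
        have hBA : B ≤ A := by rintro _ ⟨b, hb, rfl⟩; exact hb.1
        have hBcoc : B ∈ Coprime.Cocyclic A := by
          refine ⟨hBA, a, ha, le_antisymm (sup_le hBA (zpowers_le.mpr ha)) fun b hb => ?_⟩
          have hbA' : π ⟨b, hAV hb⟩ ∈ A' := ⟨⟨b, hAV hb⟩, hb, rfl⟩
          rw [← hsup] at hbA'
          have hZn : zpowers (π a) ≤ normalizer (B' : Set (Nn ⧸ V')) := by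
            rw [zpowers_le, mem_normalizer_iff]
            intro c
            have hcomm : ∀ c ∈ A', π a * c = c * π a := fun c hc =>
              congrArg (fun z : A' => (z : Nn ⧸ V'))
                (IsMulCommutative.is_comm.comm (⟨π a, ⟨a, ha, rfl⟩⟩ : A') ⟨c, hc⟩)
            constructor
            · intro hc
              rwa [hcomm c (hB'A hc), mul_inv_cancel_right]
            · intro hc
              have hcA : c ∈ A' := by
                have := A'.mul_mem (A'.mul_mem (A'.inv_mem ⟨a, ha, rfl⟩) (hB'A hc)) ⟨a, ha, rfl⟩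
                simpa [mul_assoc] using this
              rwa [hcomm c hcA, mul_inv_cancel_right] at hc
          obtain ⟨c, hc, d, hd, hcd⟩ := (Coprime.mem_sup_of_le_normalizer hZn).mp hbA'
          obtain ⟨i, rfl⟩ := mem_zpowers_iff.mp hd
          have hbB : b * ((a : Γ) ^ i)⁻¹ ∈ B := by
            refine ⟨⟨b, hAV hb⟩ * (a ^ i)⁻¹, ⟨?_, ?_⟩, by simp⟩
            · show b * ((a ^ i : Nn) : Γ)⁻¹ ∈ A
              exact A.mul_mem hb (A.inv_mem (by rw [SubgroupClass.coe_zpow]; exact A.zpow_mem ha i))
            · show π (⟨b, hAV hb⟩ * (a ^ i)⁻¹) ∈ B'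
              rw [map_mul, map_inv, map_zpow, ← hcd, mul_inv_cancel_right]
              exact hc
          have := mul_mem_sup (T := zpowers (a : Γ)) hbB (zpow_mem (mem_zpowers (a : Γ)) i)
          rwa [inv_mul_cancel_right] at this
        obtain ⟨⟨y, hy, rfl⟩, hyc⟩ := hy'
        have hfix : ∀ b ∈ B, (y : Γ)⁻¹ * (b * y * b⁻¹) ∈ V := by
          rintro _ ⟨b, hb, rfl⟩
          have h1 : π b * π y = π y * π b := mem_centralizer_iff.mp hyc _ hb.2
          have h2 : π (y⁻¹ * (b * y * b⁻¹)) = 1 := by
            simp only [map_mul, map_inv]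
            rw [h1]
            group
          have := mem_subgroupOf.mp ((QuotientGroup.eq_one_iff _).mp h2)
          simpa using this
        obtain ⟨v, hv, hvc⟩ := Coprime.exists_fixed_mem_leftCoset (A := B) (N := V) (hBA.trans hAV)
          ((hcop.coprime_dvd_left (card_dvd_of_le hBA)).coprime_dvd_right (card_dvd_of_le hVP))
          (Or.inl (Group.isSolvable_of_comm fun u w => Subtype.ext (congrArg (fun z : A => (z : Γ))
            (IsMulCommutative.is_comm.comm (⟨(u : Γ), hBA u.2⟩ : A) ⟨(w : Γ), hBA w.2⟩)))) hfix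
        have hyv := heng _ hx B hBcoc _ ⟨mul_mem hy (hVP hv), hvc⟩
        have hπy : π y = π (y * ⟨v, le_normalizer hv⟩) := by
          rw [map_mul, show π (⟨v, le_normalizer hv⟩ : Nn) = 1 from (QuotientGroup.eq_one_iff _).mpr hv,
            mul_one]
        rw [hπy, ← map_eIter]
        have : eIter (y * ⟨v, le_normalizer hv⟩) x e = 1 := Subtype.ext (by
          show Nn.subtype (eIter (y * ⟨v, le_normalizer hv⟩) x e) = 1
          rw [map_eIter]
          exact hyv)
        rw [this, map_one]
    -- elements of order prime to `q` centralise `V`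
    have hVc : ∀ x ∈ s, ¬ q ∣ orderOf x → ∀ v ∈ V, x * v = v * x := by
      intro x hx hxq
      have hxP := hsP hx
      have : V ≤ centralizer ({x} : Set Γ) := by
        refine le_of_cocyclic hAV (hcop.coprime_dvd_right (card_dvd_of_le hVP)) fun B hB y hy => ?_
        have hmem : ∀ j, eIter y x j ∈ V := by
          intro j
          induction j with
          | zero => exact hy.1
          | succ j ihj =>
            show ⁅eIter y x j, x⁆ ∈ V
            exact le_normalizer_iff_commutator_le_left.mp hPV (commutator_mem_commutator ihj hxP)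
        have hdown : ∀ u ∈ V, ⁅⁅u, x⁆, x⁆ = 1 → ⁅u, x⁆ = 1 := by
          intro u hu h
          have hwV : ⁅u, x⁆ ∈ V := le_normalizer_iff_commutator_le_left.mp hPV (commutator_mem_commutator hu hxP)
          set w := ⁅u, x⁆ with hw
          have hc : Commute w x := commutatorElement_eq_one_iff_mul_comm.mp h
          have e1 : ∀ j : ℕ, x ^ j * u * (x ^ j)⁻¹ = (w ^ j)⁻¹ * u := by
            intro j
            induction j with
            | zero => simp
            | succ j ihj =>
              rw [show x ^ (j + 1) * u * (x ^ (j + 1))⁻¹ = x * (x ^ j * u * (x ^ j)⁻¹) * x⁻¹ by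
                rw [pow_succ']; group, ihj,
                show x * ((w ^ j)⁻¹ * u) * x⁻¹ = (x * (w ^ j)⁻¹ * x⁻¹) * (x * u * x⁻¹) by group,
                (hc.symm.pow_right j).inv_right.eq, mul_inv_cancel_right]
              have : x * u * x⁻¹ = w⁻¹ * u := by rw [hw, commutatorElement_def]; group
              rw [this, ← mul_assoc, ← mul_inv_rev, ← pow_succ']
          have hwn : w ^ orderOf x = 1 := by
            have := e1 (orderOf x)
            rw [pow_orderOf_eq_one, one_mul, inv_one, mul_one] at this
            have h3 : (w ^ orderOf x)⁻¹ = 1 := mul_eq_right.mp this.symm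
            exact inv_eq_one.mp h3
          exact orderOf_eq_one_iff.mp (Nat.eq_one_of_dvd_one (((hq.coprime_iff_not_dvd.mpr hxq) ▸
            Nat.dvd_gcd (orderOf_dvd_of_pow_eq_one (hexp w hwV)) (orderOf_dvd_of_pow_eq_one hwn))))
        have hE : ∀ j, eIter y x j = 1 → ⁅y, x⁆ = 1 := by
          intro j
          induction j with
          | zero =>
            intro h
            rw [show y = 1 from h, commutatorElement_one_left]
          | succ j ihj =>
            intro h
            cases j with
            | zero => exact h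
            | succ j => exact ihj (hdown _ (hmem j) h)
        have := hE e (heng x hx B hB y ⟨hVP hy.1, hy.2⟩)
        exact mem_centralizer_iff.mpr fun z hz => by
          rw [Set.mem_singleton_iff.mp hz]
          exact (commutatorElement_eq_one_iff_mul_comm.mp this).symm
      exact fun v hv => mem_centralizer_iff.mp (this hv) x rfl
    -- generators are products of elements of prime power order
    set Z : Subgroup Γ := centralizer (V : Set Γ) with hZ
    haveI := hP'n
    have hsyl : ∀ (r : ℕ) (_ : Fact r.Prime) (R : Sylow r P), (R : Subgroup P).Normal := by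
      intro r _ R
      obtain ⟨f, hfs, hfk⟩ : ∃ f : P →* P', Function.Surjective f ∧ ∀ x : P, f x = 1 ↔ (x : Γ) ∈ V := by
        refine ⟨(π.subgroupMap (P.subgroupOf Nn)).comp (Subgroup.subgroupOfEquivOfLe hPV).symm.toMonoidHom,
          (π.subgroupMap_surjective _).comp (MulEquiv.surjective _), fun x => ?_⟩
        rw [← Subtype.val_inj]
        show π ⟨(x : Γ), hPV x.2⟩ = 1 ↔ _
        exact (QuotientGroup.eq_one_iff _).trans mem_subgroupOf
      set Q := R.mapSurjective hfs with hQ
      haveI : (Q : Subgroup P').Normal :=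
        (Group.isNilpotent_of_finite_tfae.out 0 3 rfl rfl).mp hP'n r inferInstance Q
      set M : Subgroup P := (Q : Subgroup P').comap f with hM
      have hMn : M.Normal := inferInstance
      have hMeq : M = (R : Subgroup P) ⊔ f.ker := by
        rw [hM, hQ, Sylow.coe_mapSurjective, Subgroup.comap_map_eq]
      have hkerV : ∀ x : P, x ∈ f.ker ↔ (x : Γ) ∈ V := hfk
      by_cases hrq : r = q
      · subst hrq
        have hker : f.ker ≤ (R : Subgroup P) := by
          have hk : IsPGroup r f.ker := fun x => ⟨1, Subtype.ext (Subtype.ext (by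
            rw [pow_one]; exact hexp _ ((hkerV _).mp x.2)))⟩
          obtain ⟨R', hR'⟩ := hk.exists_le_sylow
          obtain ⟨g, hg⟩ := MulAction.exists_smul_eq P R' R
          intro x hx
          rw [← hg, Sylow.coe_subgroup_smul, Coprime.mem_conj_smul]
          exact hR' ((inferInstance : f.ker.Normal).conj_mem _ hx g⁻¹ |> fun h => by simpa using h)
        rwa [hMeq, sup_eq_left.mpr hker] at hMn
      · -- `R` centralises `V`
        set C : Subgroup P := Z.subgroupOf P with hC
        haveI : C.Normal := by
          refine Subgroup.normal_subgroupOf_of_le_normalizer (hPV.trans ?_)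
          intro g hg
          rw [mem_normalizer_iff]
          intro z
          simp only [hZ, SetLike.mem_coe, mem_centralizer_iff]
          constructor
          · intro h v hv
            have hv' : g⁻¹ * v * g ∈ V := (mem_normalizer_iff''.mp hg v).mp hv
            calc v * (g * z * g⁻¹) = g * ((g⁻¹ * v * g) * z) * g⁻¹ := by group
              _ = g * (z * (g⁻¹ * v * g)) * g⁻¹ := by rw [h _ hv']
              _ = g * z * g⁻¹ * v := by group
          · intro h v hv
            have hv' : g * v * g⁻¹ ∈ V := (mem_normalizer_iff.mp hg v).mp hv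
            calc v * z = g⁻¹ * ((g * v * g⁻¹) * (g * z * g⁻¹)) * g := by group
              _ = g⁻¹ * ((g * z * g⁻¹) * (g * v * g⁻¹)) * g := by rw [h _ hv']
              _ = z * v := by group
        have hkerC : f.ker ≤ C := fun x hx => mem_centralizer_iff.mpr fun v hv =>
          hab v hv _ ((hkerV x).mp hx)
        let g := QuotientGroup.mk' C
        haveI hnilC : Group.IsNilpotent (P ⧸ C) := by
          refine Group.nilpotent_of_surjective (f := (QuotientGroup.lift f.ker g
            (by intro x hx; exact (QuotientGroup.eq_one_iff x).mpr (hkerC hx))).comp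
            (QuotientGroup.quotientKerEquivOfSurjective f hfs).symm.toMonoidHom) ?_
          intro z
          obtain ⟨x, rfl⟩ := QuotientGroup.mk_surjective z
          refine ⟨QuotientGroup.quotientKerEquivOfSurjective f hfs (x : P ⧸ f.ker), ?_⟩
          rw [MonoidHom.comp_apply, MulEquiv.coe_toMonoidHom, MulEquiv.symm_apply_apply]
          rfl
        obtain ⟨S₀⟩ : Nonempty (Sylow q (P ⧸ C)) := inferInstance
        haveI : (S₀ : Subgroup (P ⧸ C)).Normal :=
          (Group.isNilpotent_of_finite_tfae.out 0 3 rfl rfl).mp hnilC q inferInstance S₀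
        have hgenq : ∀ x : P, g x ∈ (S₀ : Subgroup (P ⧸ C)) := by
          have hcl : closure {x : P | (x : Γ) ∈ s} = ⊤ := by
            refine Subgroup.map_injective P.subtype_injective ?_
            rw [MonoidHom.map_closure, ← MonoidHom.range_eq_map, P.range_subtype]
            conv_rhs => rw [← hs]
            congr 1
            ext z
            exact ⟨fun ⟨x, hx, hxz⟩ => hxz ▸ hx, fun hz => ⟨⟨z, hsP hz⟩, hz, rfl⟩⟩
          intro x
          have hxm : x ∈ closure {x : P | (x : Γ) ∈ s} := hcl ▸ mem_top x
          induction hxm using Subgroup.closure_induction with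
          | mem x hx =>
            obtain ⟨m, hm, hmc⟩ : ∃ m, ¬ q ∣ orderOf ((x : Γ) ^ (q ^ m)) ∧ True := by
              refine ⟨(orderOf (x : Γ)).factorization q, ?_, trivial⟩
              rw [orderOf_pow_of_dvd (pow_ne_zero _ hq.ne_zero) (Nat.ordProj_dvd _ q)]
              exact Nat.not_dvd_ordCompl hq (orderOf_pos _).ne'
            have hC' : x ^ (q ^ m) ∈ C := mem_centralizer_iff.mpr fun v hv =>
              (hVc _ (show ((x : Γ)) ^ (q ^ m) ∈ s from hpow _ hx _)
                (show ¬ q ∣ orderOf ((x : Γ) ^ (q ^ m)) from hm) v hv).symm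
            have h1 : (g x) ^ (q ^ m) = 1 := by
              rw [← map_pow]; exact (QuotientGroup.eq_one_iff _).mpr hC'
            have hz : IsPGroup q (zpowers (g x)) := by
              refine IsPGroup.of_card_dvd_pow (n := m) ?_
              rw [Nat.card_zpowers]
              exact orderOf_dvd_of_pow_eq_one h1
            obtain ⟨S', hS'⟩ := hz.exists_le_sylow
            obtain ⟨u, hu⟩ := MulAction.exists_smul_eq (P ⧸ C) S₀ S'
            have : (S' : Subgroup (P ⧸ C)) = (S₀ : Subgroup (P ⧸ C)) := by
              rw [← hu, Sylow.coe_subgroup_smul]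
              exact Subgroup.Normal.conjAct (inferInstance) _
            exact this ▸ hS' (mem_zpowers _)
          | one => simp
          | mul a b _ _ ha hb => rw [map_mul]; exact mul_mem ha hb
          | inv a _ ha => rw [map_inv]; exact inv_mem ha
        have hRC : (R : Subgroup P) ≤ C := by
          intro x hx
          obtain ⟨i, hi⟩ := R.isPGroup' ⟨x, hx⟩
          obtain ⟨j, hj⟩ := S₀.isPGroup' ⟨g x, hgenq x⟩
          have hi' : x ^ r ^ i = 1 := congrArg Subtype.val hi
          have hj' : (g x) ^ q ^ j = 1 := congrArg Subtype.val hj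
          have hcq : (r ^ i).Coprime (q ^ j) :=
            ((Nat.coprime_primes Fact.out hq).mpr hrq).pow i j
          have h1 : orderOf (g x) = 1 := Nat.eq_one_of_dvd_one (hcq ▸ Nat.dvd_gcd
            (orderOf_dvd_of_pow_eq_one (by rw [← map_pow, hi', map_one])) (orderOf_dvd_of_pow_eq_one hj'))
          exact (QuotientGroup.eq_one_iff _).mp (orderOf_eq_one_iff.mp h1)
        -- `R` is normal in `M = R × ker f`, hence in `P`
        have hRn : ((R : Subgroup P).subgroupOf M).Normal := by
          refine Subgroup.normal_subgroupOf_of_le_normalizer ?_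
          rw [hMeq]
          refine sup_le le_normalizer fun k hk => centralizer_le_normalizer _ (mem_centralizer_iff.mpr fun y hy => ?_)
          exact Subtype.ext (mem_centralizer_iff.mp (hRC hy) _ ((hkerV k).mp hk)).symm
        have hRM : (R : Subgroup P) ≤ M := hMeq ▸ le_sup_left
        let RM : Sylow r M := R.subtype hRM
        haveI : (RM : Subgroup M).Normal := hRn
        haveI : (RM : Subgroup M).Characteristic := RM.characteristic_of_normal inferInstance
        have hRP : ((RM : Subgroup M).map M.subtype).Normal := inferInstance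
        rwa [Sylow.coe_subtype, subgroupOf_map_subtype, inf_eq_left.mpr hRM] at hRP
    exact (Group.isNilpotent_of_finite_tfae.out 0 3 rfl rfl).mpr hsyl

/-- The nilpotency criterion. -/
theorem isNilpotent_of_engel {Γ : Type u} [Group Γ] [Finite Γ] {A P : Subgroup Γ}
    [IsMulCommutative A] (s : Set Γ) (e : ℕ) (hAP : A ≤ normalizer (P : Set Γ))
    (hcop : (Nat.card A).Coprime (Nat.card P)) (hsolv : Group.IsSolvable P) (hs : closure s = P)
    (hpow : ∀ x ∈ s, ∀ j : ℕ, x ^ j ∈ s)
    (heng : ∀ x ∈ s, ∀ B ∈ Coprime.Cocyclic A, ∀ y ∈ P ⊓ centralizer (B : Set Γ), eIter y x e = 1) :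
    Group.IsNilpotent P :=
  nilpotent_aux _ A P s e le_rfl hAP hcop hsolv hs hpow heng

end Cfsg.Agent.CoprimeClass
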