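import Cfsg.Agent.CoprimeClass.Fixed
import Cfsg.Agent.CoprimeClass.Nil
import Cfsg.Agent.CoprimeClass.Levels
import Cfsg.Agent.Signalizer.Main
import Cfsg.Agent.CoprimeFitting.Tower

/-!
Bounded class of derived and lower central terms under a coprime elementary abelian group of operators
of large rank.
-/

set_option autoImplicit false

open Subgroup Cfsg
open scoped commutatorElement

namespace Cfsg.Agent.CoprimeClass

universe u

/-- The bound, by the codimension of the fixed subgroup. -/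
def rankBound (p c m : ℕ) : ℕ → ℕ
  | 0 => m * (c + 1)
  | j + 1 => coreBound p (c + 1) m (rankBound p c m j)

variable {Γ : Type u} [Group Γ] [Finite Γ]

theorem eIter_mem {X D : Subgroup Γ} {y x : Γ} (hy : y ∈ X) (hx : x ∈ D) :
    ∀ n, eIter y x n ∈ iterC X D n
  | 0 => hy
  | n + 1 => commutator_mem_commutator (eIter_mem hy hx n) hx

theorem iterC_le_lcs {X D N : Subgroup Γ} (hX : X ≤ normalizer (N : Set Γ)) (hD : D ≤ N) :
    ∀ n, iterC X D (n + 1) ≤ N.lowerCentralSeries n
  | 0 => (commutator_mono le_rfl hD).trans (le_normalizer_iff_commutator_le_right.mp hX)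
  | n + 1 => by
    rw [Subgroup.lowerCentralSeries_succ]
    exact commutator_mono (iterC_le_lcs hX hD n) hD

theorem exists_ne_one_of_index {A W : Subgroup Γ} {p k L : ℕ} (hp : 1 < p) (hcard : Nat.card A = p ^ k)
    (hL : L < k) (h : Nat.card A ≤ Nat.card W * p ^ L) : ∃ a ∈ W, a ≠ 1 := by
  by_contra hcon
  push Not at hcon
  have hW : W = ⊥ := eq_bot_iff.mpr fun a ha => mem_bot.mpr (hcon a ha)
  rw [hW, card_bot, one_mul, hcard] at h
  exact absurd (Nat.pow_lt_pow_right hp hL) (not_lt.mpr h)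

theorem centralizer_le_singleton {W : Subgroup Γ} {a : Γ} (ha : a ∈ W) :
    centralizer (W : Set Γ) ≤ centralizer {a} :=
  centralizer_le (Set.singleton_subset_iff.mpr ha)

theorem isNilpotent_of_le {H K : Subgroup Γ} (hle : H ≤ K) (hK : Group.IsNilpotent K) :
    Group.IsNilpotent H := by
  obtain ⟨n, hn⟩ := (isNilpotent_iff_lowerCentralSeries K).mp hK
  exact (isNilpotent_iff_lowerCentralSeries H).mpr
    ⟨n, le_bot_iff.mp ((lowerCentralSeries_mono n hle).trans hn.le)⟩

/-- The main bound. -/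
theorem lcs_eq_bot_of_lvl {A Y : Subgroup Γ} [IsMulCommutative A] {Φ : Subgroup Γ → Subgroup Γ}
    {S T : Set (Subgroup Γ)} {p k L c m : ℕ} [Fact p.Prime] (hexp : ∀ a ∈ A, a ^ p = 1)
    (hcard : Nat.card A = p ^ k) (hL : L + 1 < k) (hcop : (Nat.card Y).Coprime p)
    (hS : Lvl A Y p L Φ S T) (hm : S.ncard ≤ m) (hΦ : Monotone Φ) (hΦle : ∀ X, Φ X ≤ X)
    (hΦn : ∀ X : Subgroup Γ, X ≤ normalizer (Φ X : Set Γ)) (hY : Group.IsSolvable Y)
    (hyp : ∀ a ∈ A, a ≠ 1 → (Φ (Y ⊓ centralizer {a})).lowerCentralSeries c = ⊥) :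
    (Φ Y).lowerCentralSeries (rankBound p c m k) = ⊥ := by
  classical
  have hp : p.Prime := Fact.out
  -- enumerate the special subgroups
  obtain ⟨D, hDS, hSD⟩ : ∃ D : Fin m → Subgroup Γ, (∀ i, D i ∈ S) ∧ ∀ X ∈ S, ∃ i, D i = X := by
    haveI : Nonempty S := hS.ne.to_subtype
    haveI := Fintype.ofFinite S
    obtain ⟨f⟩ : Nonempty (S ↪ Fin m) := Function.Embedding.nonempty_of_card_le (by
      rw [Fintype.card_fin, ← Nat.card_eq_fintype_card, Nat.card_coe_set_eq]
      exact hm)
    exact ⟨fun i => (Function.invFun f i : S), fun i => (Function.invFun f i : S).2,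
      fun X hX => ⟨f ⟨X, hX⟩, congrArg Subtype.val (Function.leftInverse_invFun f.injective ⟨X, hX⟩)⟩⟩
  set P := Φ Y with hP
  have hgen : P = ⨆ i, D i := by
    rw [hP, hS.gen]
    refine le_antisymm (iSup_le fun X => ?_) (iSup_le fun i => le_iSup_of_le (⟨D i, hDS i⟩ : S) le_rfl)
    obtain ⟨i, hi⟩ := hSD X X.2
    exact le_iSup_of_le i hi.ge
  have hPA : A ≤ normalizer (P : Set Γ) := by
    rw [hgen]; exact le_normalizer_iSup fun i => hS.norm _ (hDS i)
  have hcopP : (Nat.card P).Coprime p := hcop.coprime_dvd_left (card_dvd_of_le (hΦle Y))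
  have hcopA : (Nat.card A).Coprime (Nat.card P) := by
    rw [hcard]; exact hcopP.symm.pow_left k
  -- the Engel condition
  have heng : ∀ i, ∀ B ∈ Coprime.Cocyclic A,
      iterC (Y ⊓ centralizer (B : Set Γ)) (D i) (c + 1) = ⊥ := by
    intro i B hB
    obtain ⟨W, hW, hWc, hDW⟩ := hS.small _ (hDS i)
    obtain ⟨a, ha, ha1⟩ := exists_ne_one_of_index hp.one_lt hcard hL (by
      rw [pow_succ]
      exact card_le_card_inf_mul hW hB.1 hWc (card_le_card_mul_of_cocyclic hexp hp.pos hB))
    refine le_bot_iff.mp ((iterC_le_lcs (N := Φ (Y ⊓ centralizer {a})) ?_ ?_ c).trans (hyp a (hW ha.1) ha1).le)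
    · exact (inf_le_inf_left _ (centralizer_le_singleton ha.2)).trans (hΦn _)
    · exact hDW.trans (hΦ (inf_le_inf_left _ (centralizer_le_singleton ha.1)))
  have hF : Fam A P D (c + 1) := by
    refine ⟨fun i => hgen ▸ le_iSup D i, fun i => hS.norm _ (hDS i), hPA, hcopA, hgen,
      fun i j B hB => ?_, fun i j => ?_⟩
    · obtain ⟨E, hE, hle⟩ := hS.toT _ (hDS j)
      obtain ⟨X, hX, hle'⟩ := hS.step _ (hDS i) E hE B hB
      obtain ⟨l, rfl⟩ := hSD X hX
      exact ⟨l, (inf_le_inf_right _ (commutator_mono le_rfl hle)).trans hle'⟩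
    · obtain ⟨_, ⟨B, hB, rfl⟩, hle⟩ := hS.below _ (hDS j)
      exact le_bot_iff.mp ((iterC_mono hle le_rfl _).trans (heng i B hB).le)
  -- nilpotency
  have hnil : Group.IsNilpotent P := by
    refine isNilpotent_of_engel (A := A) (⋃ i, (D i : Set Γ)) (c + 1) hPA hcopA
      (Coprime.isSolvable_of_le (hΦle Y) hY) ?_ ?_ ?_
    · rw [hgen, iSup_eq_closure]
    · intro x hx j
      obtain ⟨i, hi⟩ := Set.mem_iUnion.mp hx
      exact Set.mem_iUnion.mpr ⟨i, pow_mem hi j⟩
    · intro x hx B hB y hy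
      obtain ⟨i, hi⟩ := Set.mem_iUnion.mp hx
      have := eIter_mem (X := Y ⊓ centralizer (B : Set Γ)) ⟨hΦle Y hy.1, hy.2⟩ hi (c + 1)
      rwa [heng i B hB, mem_bot] at this
  -- the fixed points of `A`
  have hbase : (P ⊓ centralizer (A : Set Γ)).lowerCentralSeries (m * (c + 1)) = ⊥ := by
    have hR := (hF.restrict (p := p) hnil (le_refl A)).gen
    have hsm : ∀ i, ∃ a ∈ A, a ≠ 1 ∧ D i ≤ Φ (Y ⊓ centralizer {a}) := fun i => by
      obtain ⟨W, hW, hWc, hDW⟩ := hS.small _ (hDS i)
      obtain ⟨a, ha, ha1⟩ := exists_ne_one_of_index hp.one_lt hcard (by omega : L < k) hWc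
      exact ⟨a, hW ha, ha1, hDW.trans (hΦ (inf_le_inf_left _ (centralizer_le_singleton ha)))⟩
    choose a haA ha1 haD using hsm
    set H := P ⊓ centralizer (A : Set Γ) with hH
    have := lcs_eq_bot_of_iSup (N := fun i => Φ (Y ⊓ centralizer {a i}) ⊓ H) (c := c) hR
      (fun i => le_inf (inf_le_left.trans (haD i)) (le_inf (inf_le_left.trans (hgen ▸ le_iSup D i)) inf_le_right))
      (fun i => inf_le_right)
      (fun i => le_trans (le_inf ((le_inf (inf_le_left.trans (hΦle Y))
        (inf_le_right.trans (centralizer_le_singleton (haA i)))).trans (hΦn _)) le_normalizer)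
        inf_normalizer_le_normalizer_inf)
      (fun i => le_bot_iff.mp ((lowerCentralSeries_mono c inf_le_left).trans (hyp _ (haA i) (ha1 i)).le))
    rwa [Fintype.card_fin] at this
  -- induction on the codimension
  have main : ∀ j, ∀ W ≤ A, Nat.card A ≤ p ^ j * Nat.card W →
      (P ⊓ centralizer (W : Set Γ)).lowerCentralSeries (rankBound p c m j) = ⊥ := by
    intro j
    induction j with
    | zero =>
      intro W hW h
      rw [pow_zero, one_mul] at h
      rw [Subgroup.eq_of_le_of_card_ge hW h]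
      exact hbase
    | succ j ih =>
      intro W hW h
      have hR := hF.restrict (p := p) hnil hW
      obtain ⟨a, ha, hK⟩ : ∃ a ∈ A, (P ⊓ centralizer (W : Set Γ) ⊓ centralizer {a}).lowerCentralSeries
          (rankBound p c m j) = ⊥ := by
        by_cases hWA : W = A
        · refine ⟨1, one_mem A, le_bot_iff.mp ((lowerCentralSeries_mono _ inf_le_left).trans ?_)⟩
          exact (ih W hW (by rw [hWA]; exact Nat.le_mul_of_pos_left _ (pow_pos hp.pos j))).le
        · obtain ⟨a, ha, haW⟩ := SetLike.exists_of_lt (lt_of_le_of_ne hW hWA)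
          refine ⟨a, ha, le_bot_iff.mp ?_⟩
          have hWa : W ⊔ zpowers a ≤ A := sup_le hW (zpowers_le.mpr ha)
          have hlt : Nat.card W * p ≤ Nat.card (W ⊔ zpowers a : Subgroup Γ) := by
            rw [← relIndex_bot_left W, ← relIndex_bot_left (W ⊔ zpowers a),
              ← relIndex_mul_relIndex ⊥ W (W ⊔ zpowers a) bot_le le_sup_left]
            refine Nat.mul_le_mul le_rfl ?_
            have hd : W.relIndex (W ⊔ zpowers a) ∣ p ^ k := by
              rw [← hcard]
              exact (relIndex_dvd_card _ _).trans (card_dvd_of_le hWa)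
            obtain ⟨i, -, hi⟩ := (Nat.dvd_prime_pow hp).mp hd
            rw [hi]
            refine Nat.le_self_pow (fun hi0 => haW ?_) p
            rw [hi0, pow_zero, relIndex_eq_one] at hi
            exact hi (le_sup_right (a := W) (mem_zpowers a))
          have hle : Nat.card A ≤ p ^ j * Nat.card (W ⊔ zpowers a : Subgroup Γ) :=
            h.trans (by rw [pow_succ, mul_assoc, mul_comm p]; exact Nat.mul_le_mul le_rfl hlt)
          refine (lowerCentralSeries_mono _ ?_).trans (ih _ hWa hle).le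
          refine le_inf (inf_le_left.trans inf_le_left) ?_
          refine le_centralizer_iff.mpr (sup_le ?_ ?_)
          · exact le_centralizer_iff.mp (inf_le_left.trans inf_le_right)
          · rw [zpowers_le]
            exact mem_centralizer_iff.mpr fun z hz => (mem_centralizer_iff.mp hz.2 a rfl).symm
      have := hR.class_le (p := p) (isNilpotent_of_le inf_le_left hnil) ha (hexp a ha)
        (hcopP.coprime_dvd_left (card_dvd_of_le inf_le_left)) hK
      rwa [Fintype.card_fin] at this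
  have := main k ⊥ bot_le (by rw [hcard, card_bot, mul_one])
  rwa [show P ⊓ centralizer ((⊥ : Subgroup Γ) : Set Γ) = P from inf_eq_left.mpr fun x _ =>
    mem_centralizer_iff.mpr fun y hy => by rw [mem_bot.mp hy, one_mul, mul_one]] at this

theorem der_der (X : Subgroup Γ) (i : ℕ) : ∀ j, der (der X i) j = der X (i + j)
  | 0 => rfl
  | j + 1 => by
    show ⁅der (der X i) j, der (der X i) j⁆ = ⁅der X (i + j), der X (i + j)⁆
    rw [der_der X i j]

theorem isSolvable_of_der {X : Subgroup Γ} {n : ℕ} (h : der X n = ⊥) : Group.IsSolvable X := by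
  refine (Group.isSolvable_def X).mpr ⟨n, Subgroup.map_injective X.subtype_injective ?_⟩
  rw [map_derivedSeries, X.range_subtype, Subgroup.map_bot, h]

/-- Solvability from the centralisers. -/
theorem isSolvable_of_rank {A Y : Subgroup Γ} {p k : ℕ} [Fact p.Prime] (hA : IsElementaryAbelian p A)
    (hcard : Nat.card A = p ^ k) (hk : 3 ≤ k) (hcop : (Nat.card Y).Coprime p)
    (hAY : A ≤ normalizer (Y : Set Γ))
    (h : ∀ a ∈ A, a ≠ 1 → Group.IsSolvable (Y ⊓ centralizer {a} : Subgroup Γ)) :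
    Group.IsSolvable Y := by
  haveI := hA.1
  have hp : p.Prime := Fact.out
  let θ : Γ → Subgroup Γ := fun d => Y ⊓ centralizer {d}
  have hθ : Cfsg.IsSolvableSignalizerFunctor p A θ := by
    refine ⟨⟨fun d _ _ => inf_le_right, fun d _ _ hd => ?_, fun d hd _ b hb x hx => ?_,
      fun d _ _ b _ _ => ?_⟩, h⟩
    · have := Nat.eq_one_of_dvd_one (hcop ▸ Nat.dvd_gcd (hd.trans (card_dvd_of_le inf_le_left)) dvd_rfl)
      exact hp.ne_one this
    · refine ⟨(mem_normalizer_iff.mp (hAY hb) x).mp hx.1, mem_centralizer_iff.mpr fun y hy => ?_⟩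
      rw [Set.mem_singleton_iff.mp hy]
      have h1 : d * x = x * d := mem_centralizer_iff.mp hx.2 d rfl
      have h2 : Commute d b := Coprime.ea_comm hA hd hb
      exact ((h2.mul_right h1).mul_right h2.inv_right).eq
    · exact le_inf (inf_le_left.trans inf_le_left) inf_le_right
  have h3 : p ^ 3 ≤ Nat.card A := hcard ▸ Nat.pow_le_pow_right hp.pos hk
  refine Coprime.isSolvable_of_le ?_ (Signalizer.closure_isSolvable hA h3 hθ)
  refine le_of_cocyclic hAY (by rw [hcard]; exact hcop.symm.pow_left k) fun B hB => ?_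
  obtain ⟨a, ha, ha1⟩ := exists_ne_one_of_index (W := B) (L := 1) hp.one_lt hcard (by omega)
    (by rw [pow_one]; exact card_le_card_mul_of_cocyclic hA.2 hp.pos hB)
  exact (inf_le_inf_left _ (centralizer_le_singleton ha)).trans
    (le_iSup (fun a : {a // a ∈ A ∧ a ≠ 1} => θ (a : Γ)) ⟨a, hB.1 ha, ha1⟩)

/-- The bound for the derived terms. -/
def derRankBound (p k c d : ℕ) : ℕ := rankBound p c (derNum (2 ^ p ^ k) d) k

/-- The bound for the lower central terms. -/
def lcsRankBound (p k c : ℕ) : ℕ := rankBound p c (lcsNum (2 ^ p ^ k) (k - 3)) k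

theorem der_class_le {A Y : Subgroup Γ} {p k c d : ℕ} [Fact p.Prime] (hA : IsElementaryAbelian p A)
    (hcard : Nat.card A = p ^ k) (hk : 3 ≤ k) (hd : 2 ^ d + 2 ≤ k) (hcop : (Nat.card Y).Coprime p)
    (hAY : A ≤ normalizer (Y : Set Γ))
    (hyp : ∀ a ∈ A, a ≠ 1 → (der (Y ⊓ centralizer {a}) d).lowerCentralSeries c = ⊥) :
    (der Y d).lowerCentralSeries (derRankBound p k c d) = ⊥ := by
  haveI := hA.1
  have hcopA : (Nat.card A).Coprime (Nat.card Y) := by rw [hcard]; exact hcop.symm.pow_left k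
  refine lcs_eq_bot_of_lvl (L := 2 ^ d) hA.2 hcard (by omega) hcop
    (lvl_der hA.2 (Fact.out : p.Prime).pos hAY hcopA d) (hcard ▸ ncard_derLev_le d)
    (fun _ _ h => der_mono h d) (fun X => der_le_self X d) (fun X => le_normalizer_der le_normalizer d)
    (isSolvable_of_rank hA hcard hk hcop hAY fun a ha ha1 => isSolvable_of_der (n := d + c) ?_) hyp
  rw [← der_der]
  exact le_bot_iff.mp ((der_le_lcs _ c).trans (hyp a ha ha1).le)

theorem lcs_class_le {A Y : Subgroup Γ} {p k c : ℕ} [Fact p.Prime] (hA : IsElementaryAbelian p A)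
    (hcard : Nat.card A = p ^ k) (hk : 3 ≤ k) (hcop : (Nat.card Y).Coprime p)
    (hAY : A ≤ normalizer (Y : Set Γ))
    (hyp : ∀ a ∈ A, a ≠ 1 →
      ((Y ⊓ centralizer {a}).lowerCentralSeries (k - 3)).lowerCentralSeries c = ⊥) :
    (Y.lowerCentralSeries (k - 3)).lowerCentralSeries (lcsRankBound p k c) = ⊥ := by
  haveI := hA.1
  have hcopA : (Nat.card A).Coprime (Nat.card Y) := by rw [hcard]; exact hcop.symm.pow_left k
  refine lcs_eq_bot_of_lvl (L := k - 3 + 1) hA.2 hcard (by omega) hcop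
    (lvl_lcs hA.2 (Fact.out : p.Prime).pos hAY hcopA (k - 3)) (hcard ▸ ncard_lcsLev_le (k - 3))
    (fun _ _ h => lowerCentralSeries_mono _ h) (fun X => lowerCentralSeries_le_self X _)
    (fun X => le_normalizer_lcs le_normalizer _)
    (isSolvable_of_rank hA hcard hk hcop hAY fun a ha ha1 => isSolvable_of_der (n := k - 3 + c) ?_) hyp
  rw [← der_der]
  exact le_bot_iff.mp ((der_mono (der_le_lcs _ _) c).trans ((der_le_lcs _ c).trans (hyp a ha ha1).le))

end Cfsg.Agent.CoprimeClass
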