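import Cfsg.Agent.CoprimeClass.RankK
import Cfsg.Agent.Coprime.Action

/-!
Groups of automorphisms as groups of operators inside the semidirect product.
-/

set_option autoImplicit false

open Subgroup Cfsg SemidirectProduct

namespace Cfsg.Agent.CoprimeClass

variable {G : Type*} [Group G] (A : Subgroup (MulAut G))

theorem ea_inA {p : ℕ} (hA : IsElementaryAbelian p A) :
    IsElementaryAbelian p (Coprime.inA A.subtype) := by
  refine ⟨⟨⟨fun x y => Subtype.ext ?_⟩⟩, ?_⟩
  · obtain ⟨a, ha⟩ := x.2
    obtain ⟨b, hb⟩ := y.2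
    change (x : G ⋊[A.subtype] A) * y = y * x
    haveI := hA.1
    rw [← ha, ← hb, ← map_mul, ← map_mul, IsMulCommutative.is_comm.comm a b]
  · rintro _ ⟨a, rfl⟩
    rw [← map_pow, show a ^ p = 1 from Subtype.ext (by rw [SubmonoidClass.coe_pow]; exact hA.2 a a.2),
      map_one]

theorem inG_inf_centralizer (a : A) :
    Coprime.inG A.subtype ⊓ centralizer {(inr a : G ⋊[A.subtype] A)} =
      ((inl : G →* G ⋊[A.subtype] A).comp
        ((a : MulAut G).toMonoidHom.eqLocus (MonoidHom.id G)).subtype).range := by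
  ext d
  constructor
  · rintro ⟨⟨x, rfl⟩, hc⟩
    have hc' := mem_centralizer_iff.mp hc (inr a) rfl
    have hx : (a : MulAut G) x = x := inl_injective (φ := A.subtype) (by
      rw [show (a : MulAut G) x = A.subtype a x from rfl, ← Coprime.inr_conj_inl A.subtype a x, hc',
        mul_inv_cancel_right])
    exact ⟨⟨x, hx⟩, rfl⟩
  · rintro ⟨⟨x, hx⟩, rfl⟩
    refine ⟨⟨x, rfl⟩, mem_centralizer_iff.mpr fun y hy => ?_⟩
    rw [Set.mem_singleton_iff.mp hy]
    change inr a * inl x = inl x * inr a
    have h1 := Coprime.inr_conj_inl A.subtype a x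
    rw [show A.subtype a x = x from hx] at h1
    rw [← mul_inv_eq_iff_eq_mul]
    exact h1

end Cfsg.Agent.CoprimeClass
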