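import Cfsg.Agent.CoprimeClass.Kreknin
import Cfsg.Agent.CoprimeClass.Group
import Cfsg.Agent.HigmanFPF.Eigen

/-!
The extended Lie ring of a nilpotent subgroup and its pieces coming from subgroups.
-/

set_option autoImplicit false
set_option linter.unusedSectionVars false

open Subgroup TensorProduct
open scoped commutatorElement

namespace Cfsg.Agent.CoprimeClass

open HigmanFPF (GrLie io Ext Cyc)

variable {Γ : Type*} [Group Γ] [Finite Γ] {p : ℕ} [hp : Fact p.Prime] (P : Subgroup Γ)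

open Classical in
/-- The image in degree `n` of an element of `P`. -/
noncomputable def gx (n : ℕ) (x : Γ) : GrLie P :=
  if h : x ∈ P then io n (⟨x, h⟩ : P) else 0

variable {P}

theorem mem_lcs_iff {n : ℕ} {g : P} : g ∈ HigmanFPF.lcs P n ↔ (g : Γ) ∈ P.lowerCentralSeries n := by
  rw [← Subgroup.top_subtype_lowerCentralSeries P n]
  exact (mem_map_iff_mem P.subtype_injective).symm

theorem gx_of_mem {n : ℕ} {x : Γ} (hx : x ∈ P) : gx P n x = io n (⟨x, hx⟩ : P) := dif_pos hx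

theorem lcs_le (n : ℕ) : P.lowerCentralSeries n ≤ P := Subgroup.lowerCentralSeries_le_self P n

theorem gx_mul {n : ℕ} {x y : Γ} (hx : x ∈ P.lowerCentralSeries n) (hy : y ∈ P.lowerCentralSeries n) :
    gx P n (x * y) = gx P n x + gx P n y := by
  rw [gx_of_mem (lcs_le n hx), gx_of_mem (lcs_le n hy), gx_of_mem (P.mul_mem (lcs_le n hx) (lcs_le n hy))]
  exact HigmanFPF.io_mul (G := P) (x := ⟨x, _⟩) (y := ⟨y, _⟩) (mem_lcs_iff.mpr hx) (mem_lcs_iff.mpr hy)

theorem gx_one (n : ℕ) : gx P n (1 : Γ) = 0 := by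
  rw [gx_of_mem P.one_mem]
  exact HigmanFPF.io_one n

theorem gx_inv {n : ℕ} {x : Γ} (hx : x ∈ P.lowerCentralSeries n) : gx P n x⁻¹ = - gx P n x := by
  rw [gx_of_mem (lcs_le n hx), gx_of_mem (P.inv_mem (lcs_le n hx))]
  exact HigmanFPF.io_inv (G := P) (x := ⟨x, _⟩) (mem_lcs_iff.mpr hx)

theorem gx_eq_zero {n : ℕ} {x : Γ} (hx : x ∈ P.lowerCentralSeries (n + 1)) : gx P n x = 0 := by
  rw [gx_of_mem (lcs_le (n + 1) hx)]
  exact HigmanFPF.io_eq_zero (mem_lcs_iff.mpr hx)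

theorem comm_mem_lcs {i j : ℕ} {x y : Γ} (hx : x ∈ P.lowerCentralSeries i)
    (hy : y ∈ P.lowerCentralSeries j) : ⁅x, y⁆ ∈ P.lowerCentralSeries (i + j + 1) := by
  have := HigmanFPF.comm_mem (G := P) (x := ⟨x, lcs_le i hx⟩) (y := ⟨y, lcs_le j hy⟩)
    (mem_lcs_iff.mpr hx) (mem_lcs_iff.mpr hy)
  exact mem_lcs_iff.mp this

theorem lie_gx {i j : ℕ} {x y : Γ} (hx : x ∈ P.lowerCentralSeries i) (hy : y ∈ P.lowerCentralSeries j) :
    ⁅gx P i x, gx P j y⁆ = gx P (i + j + 1) ⁅x, y⁆ := by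
  rw [gx_of_mem (lcs_le i hx), gx_of_mem (lcs_le j hy), gx_of_mem (lcs_le _ (comm_mem_lcs hx hy))]
  exact HigmanFPF.lie_io (G := P) (mem_lcs_iff.mpr hx) (mem_lcs_iff.mpr hy)

variable (P)

/-- The pieces of the extended Lie ring coming from a subgroup, in degrees at least `w`. -/
noncomputable def S (p : ℕ) (X : Subgroup Γ) (w : ℕ) : AddSubgroup (Ext P p) :=
  AddSubgroup.closure {z | ∃ c n x, w ≤ n ∧ x ∈ P.lowerCentralSeries n ∧ x ∈ X ∧
    z = (c : Cyc p) ⊗ₜ[ℤ] gx P n x}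

variable {P}

theorem S_mem {X : Subgroup Γ} {w n : ℕ} {x : Γ} (c : Cyc p) (hn : w ≤ n)
    (hx : x ∈ P.lowerCentralSeries n) (hX : x ∈ X) : c ⊗ₜ[ℤ] gx P n x ∈ S P p X w :=
  AddSubgroup.subset_closure ⟨c, n, x, hn, hx, hX, rfl⟩

theorem S_mono {X Y : Subgroup Γ} {v w : ℕ} (h : X ≤ Y) (hvw : v ≤ w) : S P p X w ≤ S P p Y v := by
  rw [S, AddSubgroup.closure_le]
  rintro _ ⟨c, n, x, hn, hx, hX, rfl⟩
  exact S_mem c (hvw.trans hn) hx (h hX)

theorem S_bot (w : ℕ) : S P p (⊥ : Subgroup Γ) w = ⊥ := by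
  rw [eq_bot_iff, S, AddSubgroup.closure_le]
  rintro _ ⟨c, n, x, -, -, hX, rfl⟩
  rw [Subgroup.mem_bot] at hX
  subst hX
  rw [gx_one, TensorProduct.tmul_zero]
  exact zero_mem _

theorem br_S {X Y : Subgroup Γ} (v w : ℕ) :
    br (S P p X v) (S P p Y w) ≤ S P p ⁅X, Y⁆ (v + w + 1) := by
  refine br_le.mpr fun u hu z hz => ?_
  induction hu using AddSubgroup.closure_induction with
  | mem u hu =>
    induction hz using AddSubgroup.closure_induction with
    | mem z hz =>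
      obtain ⟨c, n, x, hn, hx, hX, rfl⟩ := hu
      obtain ⟨d, k, y, hk, hy, hY, rfl⟩ := hz
      rw [LieAlgebra.ExtendScalars.bracket_tmul, lie_gx hx hy]
      exact S_mem _ (by omega) (comm_mem_lcs hx hy) (commutator_mem_commutator hX hY)
    | zero => rw [HigmanFPF.xlie_zero]; exact zero_mem _
    | add a b _ _ ha hb => rw [HigmanFPF.xlie_add]; exact add_mem ha hb
    | neg a _ ha => rw [show ⁅u, -a⁆ = -⁅u, a⁆ from lie_neg u a]; exact neg_mem ha
  | zero => rw [HigmanFPF.xzero_lie]; exact zero_mem _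
  | add a b _ _ ha hb => rw [HigmanFPF.xadd_lie]; exact add_mem ha hb
  | neg a _ ha => rw [show ⁅-a, z⁆ = -⁅a, z⁆ from neg_lie a z]; exact neg_mem ha

/-- The elements of a term whose images lie in a given additive subgroup. -/
noncomputable def tgt (P : Subgroup Γ) (n : ℕ) (c : Cyc p) (Z : AddSubgroup (Ext P p)) : Subgroup Γ where
  carrier := {x | x ∈ P.lowerCentralSeries n ∧ c ⊗ₜ[ℤ] gx P n x ∈ Z}
  one_mem' := ⟨one_mem _, by rw [gx_one, TensorProduct.tmul_zero]; exact zero_mem _⟩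
  mul_mem' {a b} ha hb := ⟨mul_mem ha.1 hb.1, by
    rw [gx_mul ha.1 hb.1, TensorProduct.tmul_add]; exact add_mem ha.2 hb.2⟩
  inv_mem' {a} ha := ⟨inv_mem ha.1, by
    rw [gx_inv ha.1, TensorProduct.tmul_neg]; exact neg_mem ha.2⟩

theorem S_le_iSup {ι : Type*} {A X : Subgroup Γ} [IsMulCommutative A] {Y : ι → Subgroup Γ} (w : ℕ)
    (hAP : A ≤ normalizer (P : Set Γ)) (hAX : A ≤ normalizer (X : Set Γ))
    (hcop : (Nat.card A).Coprime (Nat.card P))
    (h : ∀ B ∈ Coprime.Cocyclic A, ∃ l, X ⊓ centralizer (B : Set Γ) ≤ Y l) :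
    S P p X w ≤ ⨆ l, S P p (Y l) w := by
  rw [S, AddSubgroup.closure_le]
  rintro _ ⟨c, n, x, hn, hx, hX, rfl⟩
  have hK : P.lowerCentralSeries n ⊓ X ≤ tgt P n c (⨆ l, S P p (Y l) w) := by
    refine le_of_cocyclic (le_trans (le_inf (le_normalizer_lcs hAP n) hAX)
      inf_normalizer_le_normalizer_inf)
      (hcop.coprime_dvd_right (card_dvd_of_le (inf_le_left.trans (lcs_le n)))) fun B hB => ?_
    obtain ⟨l, hl⟩ := h B hB
    intro z hz
    exact ⟨hz.1.1, AddSubgroup.mem_iSup_of_mem l (S_mem c hn hz.1.1 (hl ⟨hz.1.2, hz.2⟩))⟩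
  exact (hK ⟨hx, hX⟩).2

/-- A descending family absorbing brackets contains the terms of the series. -/
theorem tmul_gx_mem (Z : ℕ → AddSubgroup (Ext P p)) (h0 : ∀ x, x ∈ Z 0)
    (hZ : ∀ n, br (Z n) ⊤ ≤ Z (n + 1)) :
    ∀ n, ∀ c : Cyc p, ∀ x ∈ P.lowerCentralSeries n, c ⊗ₜ[ℤ] gx P n x ∈ Z n := by
  intro n
  induction n with
  | zero => exact fun c x _ => h0 _
  | succ n ih =>
    intro c x hx
    have : P.lowerCentralSeries (n + 1) ≤ tgt P (n + 1) c (Z (n + 1)) := by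
      rw [Subgroup.lowerCentralSeries_succ, commutator_le]
      intro u hu v hv
      have hv0 : v ∈ P.lowerCentralSeries 0 := hv
      refine ⟨commutator_mem_commutator hu hv, ?_⟩
      have e : ⁅c ⊗ₜ[ℤ] gx P n u, (1 : Cyc p) ⊗ₜ[ℤ] gx P 0 v⁆ = c ⊗ₜ[ℤ] gx P (n + 1) ⁅u, v⁆ := by
        rw [LieAlgebra.ExtendScalars.bracket_tmul, mul_one, lie_gx hu hv0]
      rw [← e]
      exact hZ n (mem_br (ih c u hu) (AddSubgroup.mem_top _))
    exact (this hx).2

theorem mem_of_tmul_gx {Z : AddSubgroup (Ext P p)}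
    (h : ∀ n, ∀ c : Cyc p, ∀ x ∈ P.lowerCentralSeries n, c ⊗ₜ[ℤ] gx P n x ∈ Z) (z : Ext P p) : z ∈ Z := by
  induction z using TensorProduct.induction_on with
  | zero => exact zero_mem _
  | tmul c u =>
    induction u using HigmanFPF.gr_induction with
    | h0 => rw [TensorProduct.tmul_zero]; exact zero_mem _
    | hio n g hg =>
      have := h n c g (mem_lcs_iff.mp hg)
      rwa [gx_of_mem g.2] at this
    | hadd a b ha hb => rw [TensorProduct.tmul_add]; exact add_mem ha hb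
  | add a b ha hb => exact add_mem ha hb

end Cfsg.Agent.CoprimeClass
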